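import Mathlib

/-!
# Topology of schemes of dimension at most one
-/

universe u

open CategoryTheory AlgebraicGeometry TopologicalSpace

namespace Groth.Agent.PicGlue

/-- In dimension at most one a point is closed or generic. -/
theorem isClosed_or_mem_genericPoints {Y : Scheme.{u}} (hdim : topologicalKrullDim Y ≤ 1) (y : Y) :
    IsClosed ({y} : Set Y) ∨ y ∈ genericPoints Y := by
  let C : IrreducibleCloseds Y := ⟨closure {y}, isIrreducible_singleton.closure, isClosed_closure⟩
  rcases Order.krullDim_le_one_iff.1 hdim C with hmin | hmax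
  · refine Or.inl ?_
    have : closure ({y} : Set Y) = {y} := by
      refine Set.Subset.antisymm (fun z hz => ?_) subset_closure
      let D : IrreducibleCloseds Y := ⟨closure {z}, isIrreducible_singleton.closure, isClosed_closure⟩
      have hle : D ≤ C := closure_minimal (Set.singleton_subset_iff.2 hz) isClosed_closure
      have h2 : C ≤ D := hmin hle
      exact ((specializes_iff_mem_closure.2 (h2 (subset_closure rfl))).antisymm
        (specializes_iff_mem_closure.2 hz)).eq
    rw [← this]
    exact isClosed_closure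
  · refine Or.inr ⟨isIrreducible_singleton.closure, fun t ht hCt => ?_⟩
    let D : IrreducibleCloseds Y := ⟨closure t, ht.closure, isClosed_closure⟩
    exact subset_closure.trans (hmax (show C ≤ D from hCt.trans subset_closure))

/-- A generic point has a neighbourhood inside its component only, in a noetherian space. -/
theorem exists_nhd_generic {Y : Scheme.{u}} [NoetherianSpace Y] :
    ∃ O : genericPoints Y → Y.Opens, (∀ η, (η : Y) ∈ O η) ∧ ∀ η η', η ≠ η' → O η ⊓ O η' = ⊥ := by
  have hfin : (irreducibleComponents Y).Finite := NoetherianSpace.finite_irreducibleComponents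
  let O : genericPoints Y → Y.Opens := fun η =>
    ⟨(⋃₀ (irreducibleComponents Y \ {closure {(η : Y)}}))ᶜ,
      (by
      rw [Set.sUnion_eq_biUnion]
      exact (hfin.diff.isClosed_biUnion fun C hC => isClosed_of_mem_irreducibleComponents C hC.1).isOpen_compl)⟩
  refine ⟨O, fun η => ?_, fun η η' hne => ?_⟩
  · rintro ⟨C, ⟨hC, hne⟩, hηC⟩
    have hsub : closure {(η : Y)} ⊆ C :=
      closure_minimal (Set.singleton_subset_iff.2 hηC) (isClosed_of_mem_irreducibleComponents C hC)
    exact hne (Set.Subset.antisymm (η.2.2 hC.1 hsub) hsub)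
  · refine Opens.ext (Set.eq_empty_of_forall_notMem fun z ⟨h1, h2⟩ => ?_)
    have hz := irreducibleComponent_mem_irreducibleComponents z
    have e1 : irreducibleComponent z = closure {(η : Y)} := by
      by_contra hc
      exact h1 ⟨_, ⟨hz, hc⟩, mem_irreducibleComponent⟩
    have e2 : irreducibleComponent z = closure {(η' : Y)} := by
      by_contra hc
      exact h2 ⟨_, ⟨hz, hc⟩, mem_irreducibleComponent⟩
    exact hne (Subtype.ext (inseparable_iff_closure_eq.2 (e1.symm.trans e2)).eq)

/-- The points near a generic point are its specializations. -/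
theorem exists_nhd_generic' {Y : Scheme.{u}} [NoetherianSpace Y] :
    ∃ O : genericPoints Y → Y.Opens, (∀ η, (η : Y) ∈ O η) ∧ ∀ (η : genericPoints Y) z, z ∈ O η → (η : Y) ⤳ z := by
  obtain ⟨O, hO, hdisj⟩ := exists_nhd_generic (Y := Y)
  refine ⟨O, hO, fun η z hz => ?_⟩
  let η' : genericPoints Y :=
    genericPoints.ofComponent ⟨_, irreducibleComponent_mem_irreducibleComponents z⟩
  have hspec : (η' : Y) ⤳ z := by
    have := genericPoints.isGenericPoint η'
    refine this.specializes ?_
    rw [genericPoints.component_ofComponent]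
    exact mem_irreducibleComponent
  have hη'O : (η' : Y) ∈ O η := hspec.mem_open (O η).isOpen hz
  by_contra hc
  have hne : η' ≠ η := fun e => hc (e ▸ hspec)
  have : (η' : Y) ∈ (⊥ : Y.Opens) := by rw [← hdisj η' η hne]; exact ⟨hO η', hη'O⟩
  exact this

/-- A dense open contains the generic points of a noetherian space. -/
theorem genericPoints_subset_of_dense {Y : Scheme.{u}} [NoetherianSpace Y] {V : Y.Opens} (hV : Dense (V : Set Y)) :
    genericPoints Y ⊆ (V : Set Y) := by
  intro η hη
  obtain ⟨O, hO, hspec⟩ := exists_nhd_generic' (Y := Y)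
  obtain ⟨z, hzV, hzO⟩ := hV.exists_mem_open (O ⟨η, hη⟩).isOpen ⟨η, hO _⟩
  exact (hspec ⟨η, hη⟩ z hzO).mem_open V.isOpen hzV

/-- The complement of an open containing the generic points is finite and consists of closed points. -/
theorem finite_compl {Y : Scheme.{u}} [NoetherianSpace Y] (hdim : topologicalKrullDim Y ≤ 1) (O : Y.Opens)
    (hO : genericPoints Y ⊆ (O : Set Y)) :
    (O : Set Y)ᶜ.Finite ∧ ∀ y ∉ O, IsClosed ({y} : Set Y) := by
  have hcl : ∀ y ∉ O, IsClosed ({y} : Set Y) := fun y hy =>
    (isClosed_or_mem_genericPoints hdim y).resolve_right fun h => hy (hO h)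
  refine ⟨?_, hcl⟩
  obtain ⟨S, hS, hSc, hSi, hU⟩ :=
    NoetherianSpace.exists_finite_set_isClosed_irreducible O.isOpen.isClosed_compl
  rw [hU]
  refine hS.sUnion fun C hC => ?_
  obtain ⟨c, hc⟩ := QuasiSober.sober (hSi C hC) (hSc C hC)
  have hcC : c ∈ C := hc.mem
  have hcO : c ∉ O := fun h => by
    have : c ∈ (O : Set Y)ᶜ := hU ▸ ⟨C, hC, hcC⟩
    exact this h
  rw [← hc.def, (hcl c hcO).closure_eq]
  exact Set.finite_singleton c

end Groth.Agent.PicGlue
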