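import Groth.Agent.PicGlue.PoleSections
import Groth.Agent.AmpleX.Sect
import Groth.Agent.AmpleX.Pow
import Groth.Agent.PicGlue.Dim
import Mathlib.AlgebraicGeometry.Limits

/-!
# Noetherian separated schemes of dimension one have ample invertible modules
-/

universe u

open CategoryTheory AlgebraicGeometry TopologicalSpace

set_option linter.style.haveILetI false
set_option backward.isDefEq.respectTransparency false
set_option backward.isDefEq.respectTransparency.types false

namespace Groth.Agent.PicGlue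

open Groth.Agent
open Groth.Agent.H23.PicMul

variable {X : Scheme.{u}}

theorem ringKrullDim_stalk_le_one (hdim : topologicalKrullDim X ≤ 1) (x : X) :
    ringKrullDim (X.presheaf.stalk x) ≤ 1 := by
  refine Ring.krullDimLE_iff.1 (Ring.krullDimLE_one_iff.2 fun I hI => ?_)
  let A := X.presheaf.stalk x
  let q : PrimeSpectrum A := ⟨I, hI⟩
  have hz : X.fromSpecStalk x q ⤳ x := by
    have : X.fromSpecStalk x q ∈ Set.range (X.fromSpecStalk x) := ⟨q, rfl⟩
    rwa [Scheme.range_fromSpecStalk] at this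
  rcases isClosed_or_mem_genericPoints hdim (X.fromSpecStalk x q) with hcl | hgen
  · refine Or.inr ?_
    have hzx : x = X.fromSpecStalk x q := by
      have := specializes_iff_mem_closure.1 hz
      rw [hcl.closure_eq] at this
      exact this
    have hq : q = IsLocalRing.closedPoint A := (X.fromSpecStalk x).isEmbedding.injective
      (by rw [Scheme.fromSpecStalk_closedPoint]; exact hzx.symm)
    rw [show I = q.asIdeal from rfl, hq]
    exact IsLocalRing.maximalIdeal.isMaximal A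
  · refine Or.inl ⟨⟨hI, bot_le⟩, fun J ⟨hJ, _⟩ hJI => ?_⟩
    have h1 : (⟨J, hJ⟩ : PrimeSpectrum A) ⤳ q := (PrimeSpectrum.le_iff_specializes _ q).1 hJI
    have h2 : X.fromSpecStalk x ⟨J, hJ⟩ ⤳ X.fromSpecStalk x q := h1.map (X.fromSpecStalk x).continuous
    have hsub : closure {X.fromSpecStalk x q} ⊆ closure {X.fromSpecStalk x ⟨J, hJ⟩} :=
      closure_minimal (Set.singleton_subset_iff.2 (specializes_iff_mem_closure.1 h2)) isClosed_closure
    have h3 := hgen.2 isIrreducible_singleton.closure hsub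
    have h4 : X.fromSpecStalk x q ⤳ X.fromSpecStalk x ⟨J, hJ⟩ :=
      specializes_iff_mem_closure.2 (h3 (subset_closure rfl))
    have h5 : q = ⟨J, hJ⟩ := (X.fromSpecStalk x).isEmbedding.injective (h4.antisymm h2).eq
    exact (congrArg PrimeSpectrum.asIdeal h5).le

/-- Every point has an affine neighbourhood containing all generic points. -/
theorem exists_affine_dense [IsNoetherian X] (x : X) :
    ∃ U : X.Opens, IsAffineOpen U ∧ x ∈ U ∧ genericPoints X ⊆ (U : Set X) := by
  obtain ⟨_, ⟨W, hW, rfl⟩, hxW, -⟩ :=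
    X.isBasis_affineOpens.exists_subset_of_mem_open (Set.mem_univ x) isOpen_univ
  obtain ⟨O, hO, hdisj⟩ := exists_nhd_generic (Y := X)
  obtain ⟨O', hO', hspec⟩ := exists_nhd_generic' (Y := X)
  let F := {η : genericPoints X // (η : X) ∉ W}
  haveI : Finite (genericPoints X) :=
    (genericPoints.finite (NoetherianSpace.finite_irreducibleComponents (α := X))).to_subtype
  have hV : ∀ η : F, ∃ V : X.Opens, IsAffineOpen V ∧ (η.1 : X) ∈ V ∧ V ≤ O η.1 ⊓ O' η.1 := fun η => by
    obtain ⟨_, ⟨V, hV, rfl⟩, hηV, hVO⟩ :=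
      X.isBasis_affineOpens.exists_subset_of_mem_open (show (η.1 : X) ∈ O η.1 ⊓ O' η.1 from ⟨hO _, hO' _⟩)
        (O η.1 ⊓ O' η.1).isOpen
    exact ⟨V, hV, hηV, hVO⟩
  choose V hVa hηV hVO using hV
  let P : Option F → X.Opens := fun o => o.elim W V
  have hWV : ∀ η : F, Disjoint W (V η) := fun η => disjoint_iff.2 (Opens.ext
    (Set.eq_empty_of_forall_notMem fun z ⟨hz1, hz2⟩ =>
      η.2 ((hspec η.1 z (hVO η hz2).2).mem_open W.isOpen hz1)))
  refine ⟨iSup P, IsAffineOpen.iSup_of_disjoint (fun o => ?_) ?_, Opens.mem_iSup.2 ⟨none, hxW⟩, fun η hη => ?_⟩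
  · rcases o with _ | η
    exacts [hW, hVa η]
  · rintro (_ | η) (_ | η') hne
    · exact absurd rfl hne
    · exact hWV η'
    · exact (hWV η).symm
    · refine disjoint_iff.2 (le_bot_iff.1 ?_)
      rw [← hdisj η.1 η'.1 fun e => hne (congrArg some (Subtype.ext e))]
      exact inf_le_inf ((hVO η).trans inf_le_left) ((hVO η').trans inf_le_left)
  · by_cases h : η ∈ W
    · exact Opens.mem_iSup.2 ⟨none, h⟩
    · exact Opens.mem_iSup.2 ⟨some ⟨⟨η, hη⟩, h⟩, hηV _⟩

theorem exists_product (U : ℕ → X.Opens) (L : ℕ → X.Modules) (hU : ∀ i, IsAffineOpen (U i))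
    (hL : ∀ i, PicF.IsInvertible (L i)) (s t : ∀ i, Γ(L i, (⊤ : X.Opens))) (hs : ∀ i, AmpleX.locus (s i) = U i)
    (ht : ∀ i y, y ∈ U i ∨ y ∈ AmpleX.locus (t i)) (n : ℕ) :
    ∃ M : X.Modules, PicF.IsInvertible M ∧ (∀ y, ∃ a : Γ(M, (⊤ : X.Opens)), y ∈ AmpleX.locus a) ∧
      ∀ i < n, ∀ y ∈ U i, ∃ a : Γ(M, (⊤ : X.Opens)), y ∈ AmpleX.locus a ∧ IsAffineOpen (AmpleX.locus a) := by
  induction n with
  | zero =>
    exact ⟨Coh.structureModule X, InvX.isInvertible_structureModule, fun y =>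
      ⟨_, AmpleX.le_locus _ le_rfl ((InvX.isFrame_one (X := X) ⊤).res le_rfl) trivial⟩,
      fun i hi => absurd hi (Nat.not_lt_zero i)⟩
  | succ n ih =>
    obtain ⟨M, hM, hg, ha⟩ := ih
    refine ⟨CohB1.tensorMod (L n) M, InvX.isInvertible_tensorMod (hL n) hM, fun y => ?_, fun i hi y hy => ?_⟩
    · obtain ⟨a, ha'⟩ := hg y
      rcases ht n y with h | h
      · exact ⟨InvX.tmul (s n) a, by rw [AmpleX.locus_tmul (hL n) hM]; exact ⟨(hs n).ge h, ha'⟩⟩
      · exact ⟨InvX.tmul (t n) a, by rw [AmpleX.locus_tmul (hL n) hM]; exact ⟨h, ha'⟩⟩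
    · rcases Nat.lt_succ_iff_lt_or_eq.1 hi with hi | rfl
      · obtain ⟨a, hya, haff⟩ := ha i hi y hy
        obtain ⟨b, hb⟩ : ∃ b : Γ(L n, (⊤ : X.Opens)), y ∈ AmpleX.locus b := by
          rcases ht n y with h | h
          exacts [⟨_, (hs n).ge h⟩, ⟨_, h⟩]
        refine ⟨InvX.tmul b a, ?_⟩
        rw [AmpleX.locus_tmul (hL n) hM, inf_comm]
        exact ⟨⟨hya, hb⟩, AmpleX.isAffineOpen_inf_locus (hL n) haff b le_top⟩
      · obtain ⟨a, ha'⟩ := hg y
        refine ⟨InvX.tmul (s i) a, ?_⟩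
        rw [AmpleX.locus_tmul (hL i) hM, hs i]
        exact ⟨⟨hy, ha'⟩, AmpleX.isAffineOpen_inf_locus hM (hU i) a le_top⟩

/-- A noetherian separated scheme of dimension at most one has an ample invertible module. -/
theorem exists_isAmple_of_dim_le_one [IsNoetherian X] [X.IsSeparated] (hdim : topologicalKrullDim X ≤ 1) :
    ∃ L : X.Modules, CohB1.IsAmple L := by
  classical
  rcases isEmpty_or_nonempty X with hX | hX
  · exact ⟨Coh.structureModule X, InvX.isInvertible_structureModule, inferInstance, fun x => isEmptyElim x⟩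
  choose U hU hxU hgen using exists_affine_dense (X := X)
  obtain ⟨T, hT⟩ := isCompact_univ.elim_finite_subcover (fun x : X => (U x : Set X)) (fun x => (U x).isOpen)
    (fun x _ => Set.mem_iUnion.2 ⟨x, hxU x⟩)
  let e : List X := T.toList
  let V : ℕ → X.Opens := fun i => U (e.getD i hX.some)
  have hsec : ∀ i, ∃ (L : X.Modules) (s t : Γ(L, (⊤ : X.Opens))), PicF.IsInvertible L ∧ AmpleX.locus s = V i ∧
      ∀ y, y ∈ V i ∨ y ∈ AmpleX.locus t := fun i => by
    obtain ⟨hfin, hcl⟩ := finite_compl hdim (V i) (hgen _)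
    haveI : Finite ↥((V i : Set X)ᶜ) := hfin.to_subtype
    haveI : T1Space ↥((V i : Set X)ᶜ) := ⟨fun z => by
      have := (hcl z.1 z.2).preimage (continuous_subtype_val (p := fun w => w ∈ ((V i : Set X)ᶜ)))
      rwa [show Subtype.val ⁻¹' ({z.1} : Set X) = ({z} : Set ↥((V i : Set X)ᶜ)) from
        Set.ext fun w => ⟨fun h => Subtype.ext h, fun h => congrArg Subtype.val h⟩] at this⟩
    exact exists_two_sections (V i) (hU _) hfin inferInstance fun x _ => ringKrullDim_stalk_le_one hdim x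
  choose L s t hL hs ht using hsec
  obtain ⟨M, hM, -, ha⟩ := exists_product V L (fun i => hU _) hL s t hs ht e.length
  refine ⟨M, AmpleX.isAmple_iff.2 ⟨hM, inferInstance, fun y => ?_⟩⟩
  obtain ⟨x, hxT, hyx⟩ := Set.mem_iUnion₂.1 (hT (Set.mem_univ y))
  obtain ⟨i, hi, rfl⟩ := List.getElem_of_mem (Finset.mem_toList.2 hxT)
  have hy : y ∈ V i := by
    show y ∈ U (e.getD i hX.some)
    rw [List.getD_eq_getElem e hX.some hi]
    exact hyx
  obtain ⟨a, hya, haff⟩ := ha i hi y hy
  have hcl : PicF.cl M = PicF.cl (CohB1.tensorPow M 1) := by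
    rw [H23.PicMul.cl_tensorPow, pow_one]
  obtain ⟨r, hr⟩ := AmpleX.exists_section_of_cl_eq hcl (InvX.ofSect a)
  rw [AmpleX.genLocus_eq_locus (InvX.ofSect a), InvX.one_ofSect] at hr
  exact ⟨1, one_pos, r, hr ▸ hya, hr ▸ haff⟩

end Groth.Agent.PicGlue
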