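import Groth.Agent.Proj16.BaseChange
import Groth.Agent.SegreX.Basic
import Mathlib.RingTheory.TensorProduct.MvPolynomial

/-!
# Projective space over a ring as a base change of projective space over the integers
-/

universe u

open CategoryTheory CategoryTheory.Limits AlgebraicGeometry

set_option linter.style.haveILetI false
set_option backward.isDefEq.respectTransparency false
set_option backward.isDefEq.respectTransparency.types false

namespace Groth.Agent.PicGlue

open Groth.Agent

attribute [local instance] MvPolynomial.algebraMvPolynomial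

/-- `P^n_R ≅ P^n_ℤ ×_ℤ Spec R`. -/
theorem exists_projSpace_iso (n : ℕ) (R : Type u) [CommRing R] :
    ∃ e : CohB1.ProjSpace n R ≅ CohB1.ProjSpaceOver n (Spec (CommRingCat.of R)),
      e.hom ≫ CohB1.ProjSpaceOver.toBase n (Spec (CommRingCat.of R)) = CohB1.ProjSpace.toSpec n R := by
  letI : Algebra (ULift.{u} ℤ) R := ((Int.castRingHom R).comp ULift.ringEquiv.toRingHom).toAlgebra
  let φ : CohB1.polyGrading n (ULift.{u} ℤ) →+*ᵍ CohB1.polyGrading n R :=
    { MvPolynomial.map (algebraMap (ULift.{u} ℤ) R) with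
      map_mem := fun {i x} hx => by
        rw [MvPolynomial.mem_homogeneousSubmodule] at hx ⊢
        exact hx.map _ }
  have hφA : ∀ b, φ b = algebraMap (MvPolynomial (Fin (n + 1)) (ULift.{u} ℤ)) (MvPolynomial (Fin (n + 1)) R) b :=
    fun _ => rfl
  have hφ : HomogeneousIdeal.irrelevant (CohB1.polyGrading n R) ≤
      (HomogeneousIdeal.irrelevant (CohB1.polyGrading n (ULift.{u} ℤ))).map φ := by
    intro a ha
    have h1 := SegreX.irrelevant_le_span n R ha
    refine (Ideal.span_le.2 ?_ : Ideal.span _ ≤ ((HomogeneousIdeal.irrelevant (CohB1.polyGrading n (ULift.{u} ℤ))).map φ).toIdeal) h1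
    rintro _ ⟨i, rfl⟩
    have hX : (MvPolynomial.X i : MvPolynomial (Fin (n + 1)) (ULift.{u} ℤ)) ∈
        HomogeneousIdeal.irrelevant (CohB1.polyGrading n (ULift.{u} ℤ)) :=
      HomogeneousIdeal.mem_irrelevant_of_mem _ one_pos (MvPolynomial.isHomogeneous_X _ i)
    have h2 := Ideal.mem_map_of_mem (φ : MvPolynomial (Fin (n + 1)) (ULift.{u} ℤ) →+* MvPolynomial (Fin (n + 1)) R) hX
    rw [show (φ : MvPolynomial (Fin (n + 1)) (ULift.{u} ℤ) →+* MvPolynomial (Fin (n + 1)) R) (MvPolynomial.X i) =
      MvPolynomial.X i from MvPolynomial.map_X _ i] at h2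
    exact h2
  have sq := Proj16.BaseChange.isPullback_map φ hφA hφ
  have e : specULiftZIsTerminal.from (Spec (CommRingCat.of R)) =
      Spec.map (CommRingCat.ofHom (algebraMap (ULift.{u} ℤ) R)) := specULiftZIsTerminal.hom_ext _ _
  have sq' : IsPullback (Proj.map φ hφ) (CohB1.ProjSpace.toSpec n R) (CohB1.ProjSpace.toSpec n (ULift.{u} ℤ))
      (specULiftZIsTerminal.from (Spec (CommRingCat.of R))) := by
    rw [e]
    exact sq
  exact ⟨sq'.isoPullback, sq'.isoPullback_hom_snd⟩

end Groth.Agent.PicGlue
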