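import Groth.Agent.Lib.AmpleEmbed
import Groth.Agent.AmpleX.Sect

/-!
# Loci of sections of ample modules on schemes proper over an affine base are affine
-/

set_option linter.style.haveILetI false
set_option backward.isDefEq.respectTransparency false
set_option backward.isDefEq.respectTransparency.types false
set_option maxHeartbeats 800000

universe u

open CategoryTheory CategoryTheory.Limits AlgebraicGeometry TopologicalSpace HomogeneousLocalization

namespace Groth.Agent.PicGlue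

open Groth.Agent Groth.Agent.InvX Groth.Agent.H23 Groth.Agent.AmpleEmbed

/-- The locus of a section of an ample invertible module on a scheme proper over an affine base is affine. -/
theorem isAffineOpen_locus {R : Type u} [CommRing R] {X : Scheme.{u}} (f : X ⟶ Spec (CommRingCat.of R))
    [IsProper f] {L₀ : X.Modules} (hL₀ : CohB1.IsAmple L₀) (a₀ : Γ(L₀, (⊤ : X.Opens))) :
    IsAffineOpen (AmpleX.locus a₀) := by
  classical
  haveI : CompactSpace X := hL₀.2.1
  haveI : X.IsSeparated := ⟨by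
    rw [← Limits.terminal.comp_from f]
    infer_instance⟩
  obtain ⟨a, ha, κ, _, σ, haff, -, hcov⟩ := AmpleX.exists_cover_genLocus hL₀
  let σ₀ : Coh.structureModule X ⟶ CohB1.tensorPow L₀ a := ofSect (AmpleX.powElt a₀ a)
  have hσ₀ : CohB1.genLocus _ σ₀ = AmpleX.locus a₀ := by
    obtain ⟨a', rfl⟩ := Nat.exists_eq_add_of_le' ha
    rw [AmpleX.genLocus_eq_locus, one_ofSect, AmpleX.locus_powElt hL₀.1]
  let L := CohB1.tensorPow L₀ a
  have hL : PicF.IsInvertible L := InvX.isInvertible_tensorPow hL₀.1 a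
  let U : κ → X.Opens := fun i => CohB1.genLocus L (σ i)
  let φ : ∀ i, R →+* Γ(X, U i) := fun i =>
    (f.appLE ⊤ (U i) le_top).hom.comp (Scheme.ΓSpecIso (CommRingCat.of R)).inv.hom
  have hft : ∀ i, (φ i).FiniteType := fun i =>
    (f.finiteType_appLE (isAffineOpen_top _) (haff i) le_top).comp
      (RingHom.FiniteType.of_surjective _
        (ConcreteCategory.bijective_of_isIso (Scheme.ΓSpecIso (CommRingCat.of R)).inv).2)
  have hgen : ∀ i, ∃ G : Finset Γ(X, U i), ∀ S : Subring Γ(X, U i), Set.range (φ i) ⊆ S → (G : Set Γ(X, U i)) ⊆ S → S = ⊤ :=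
    fun i => by
    letI := (φ i).toAlgebra
    obtain ⟨G, hG⟩ := (show Algebra.FiniteType R Γ(X, U i) from hft i).out
    refine ⟨G, fun S h1 h2 => top_le_iff.1 fun x hx0 => ?_⟩
    clear hx0
    have hx : x ∈ Algebra.adjoin R (G : Set Γ(X, U i)) := hG ▸ Algebra.mem_top
    induction hx using Algebra.adjoin_induction with
    | mem y hy => exact h2 hy
    | algebraMap c => exact h1 ⟨c, rfl⟩
    | add y z _ _ hy hz => exact S.add_mem hy hz
    | mul y z _ _ hy hz => exact S.mul_mem hy hz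
  choose G hG using hgen
  have hO : Coh.IsQCoh (Coh.structureModule X) := AmpleX.isQCoh_one X
  choose n₀ hn₀ using fun p : Σ i, G i => AmpleX.exists_extend hO hL (σ p.1)
    (show Γ(Coh.structureModule X, U p.1) from (p.2.1 : Γ(X, U p.1)))
  let N := Finset.univ.sup n₀
  choose T hT using fun p : Σ i, G i => hn₀ p (N + 1) ((Finset.le_sup (Finset.mem_univ p)).trans N.le_succ)
  let M := CohB1.tensorMod (Coh.structureModule X) (CohB1.tensorPow L (N + 1))
  have hM : PicF.IsInvertible M :=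
    InvX.isInvertible_tensorMod InvX.isInvertible_structureModule (InvX.isInvertible_tensorPow hL _)
  let S : κ → Γ(M, ⊤) := fun i =>
    tmul (show Γ(Coh.structureModule X, ⊤) from (1 : Γ(X, ⊤))) (AmpleX.powElt (one (σ i)) (N + 1))
  have hS : ∀ i, TrivBasic.locus (S i) = U i := fun i => by
    have h := genLocus_mulHom InvX.isInvertible_structureModule (InvX.isInvertible_tensorPow hL (N + 1))
      (ofSect (show Γ(Coh.structureModule X, ⊤) from (1 : Γ(X, ⊤)))) (powHom (σ i) (N + 1))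
    rw [genLocus_powHom hL] at h
    have h1 : CohB1.genLocus _ (ofSect (show Γ(Coh.structureModule X, ⊤) from (1 : Γ(X, ⊤)))) = ⊤ :=
      TrivBasic.locus_eq_top_iff.2 (isFrame_one ⊤)
    rw [h1, top_inf_eq] at h
    refine Eq.trans ?_ h
    show CohB1.genLocus _ (ofSect (S i)) = CohB1.genLocus _ (ofSect _)
    rw [one_ofSect, AmpleX.one_powHom]
  let S₀ : Γ(M, ⊤) :=
    tmul (show Γ(Coh.structureModule X, ⊤) from (1 : Γ(X, ⊤))) (AmpleX.powElt (one σ₀) (N + 1))
  have hS₀ : TrivBasic.locus S₀ = CohB1.genLocus _ σ₀ := by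
    have h := genLocus_mulHom InvX.isInvertible_structureModule (InvX.isInvertible_tensorPow hL (N + 1))
      (ofSect (show Γ(Coh.structureModule X, ⊤) from (1 : Γ(X, ⊤)))) (powHom σ₀ (N + 1))
    rw [genLocus_powHom hL] at h
    have h1 : CohB1.genLocus _ (ofSect (show Γ(Coh.structureModule X, ⊤) from (1 : Γ(X, ⊤)))) = ⊤ :=
      TrivBasic.locus_eq_top_iff.2 (isFrame_one ⊤)
    rw [h1, top_inf_eq] at h
    refine Eq.trans ?_ h
    show CohB1.genLocus _ (ofSect S₀) = CohB1.genLocus _ (ofSect _)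
    rw [one_ofSect, AmpleX.one_powHom]
  obtain ⟨n, ⟨e⟩⟩ : ∃ n, Nonempty (Fin (n + 1) ≃ κ ⊕ (Option (Σ i, G i))) := by
    obtain ⟨n, hn⟩ := Nat.exists_eq_add_one.2 (Fintype.card_pos (α := κ ⊕ Option (Σ i, G i)))
    exact ⟨n, ⟨((finCongr hn.symm).trans (Fintype.equivFin _).symm)⟩⟩
  let s : Fin (n + 1) → Γ(M, ⊤) := fun j => Sum.elim S (fun (o : Option (Σ i, G i)) => o.elim S₀ T) (e j)
  have hs : ProjUP.GeneratedBy M s := fun x => by
    obtain ⟨i, hi⟩ := hcov x
    have hxi : x ∈ TrivBasic.locus (S i) := by rw [hS]; exact hi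
    refine eq_top_iff.2 fun z _ => ?_
    obtain ⟨c, hc⟩ := ((TrivBasic.isFrame_res_of_le_locus (le_refl (TrivBasic.locus (S i)))).germ_bijective hxi).2 z
    rw [← hc]
    refine Submodule.smul_mem _ c (Submodule.subset_span ⟨e.symm (Sum.inl i), ?_⟩)
    show (M.presheaf.germ ⊤ x trivial).hom (Sum.elim S (fun (o : Option (Σ i, G i)) => o.elim S₀ T) (e (e.symm _))) = _
    rw [Equiv.apply_symm_apply]
    exact (InvX.germ_res' (le_top : TrivBasic.locus (S i) ≤ ⊤) hxi (S i)).symm
  obtain ⟨r, hr, τ, hτ⟩ := S3572.result n f M hM s hs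
  suffices hcl : IsClosedImmersion r by
    have hτ₀ : τ.hom.app ⊤ (ProjUP.pullSec r _ (ProjUP.coord n R (e.symm (Sum.inr none)))) = S₀ := by
      rw [hτ]; show Sum.elim S (fun (o : Option (Σ i, G i)) => o.elim S₀ T) _ = _; rw [Equiv.apply_symm_apply]; rfl
    rw [← hσ₀, ← hS₀, ← preimage_chart r τ _ hτ₀]
    exact (Proj.isAffineOpen_basicOpen _ _ (ProjPt.X_mem _) one_pos).preimage r
  haveI hp : IsProper (CohB1.ProjSpace.toSpec n R) := PnCoh.Chow.isProper_toSpec n R
  haveI : IsProper r := by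
    haveI : IsProper (r ≫ CohB1.ProjSpace.toSpec n R) := hr ▸ ‹IsProper f›
    exact IsProper.of_comp r (CohB1.ProjSpace.toSpec n R)
  let D : κ → (CohB1.ProjSpace n R).Opens := fun i =>
    Proj.basicOpen (CohB1.polyGrading n R) (MvPolynomial.X (e.symm (Sum.inl i)))
  have hτS : ∀ i, τ.hom.app ⊤ (ProjUP.pullSec r _ (ProjUP.coord n R (e.symm (Sum.inl i)))) = S i := fun i => by
    rw [hτ]; show Sum.elim S (fun (o : Option (Σ i, G i)) => o.elim S₀ T) _ = _; rw [Equiv.apply_symm_apply]; rfl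
  have hτT : ∀ p, τ.hom.app ⊤ (ProjUP.pullSec r _ (ProjUP.coord n R (e.symm (Sum.inr (some p))))) = T p := fun p => by
    rw [hτ]; show Sum.elim S (fun (o : Option (Σ i, G i)) => o.elim S₀ T) _ = _; rw [Equiv.apply_symm_apply]; rfl
  have hpre : ∀ i, r ⁻¹ᵁ D i = U i := fun i => (preimage_chart r τ _ (hτS i)).trans (hS i)
  have hDaff : ∀ i, IsAffineOpen (D i) := fun i => Proj.isAffineOpen_basicOpen _ _ (ProjPt.X_mem _) one_pos
  have hloc : ∀ i, IsClosedImmersion (r ∣_ D i) := fun i => by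
    haveI : IsAffine (D i : Scheme) := hDaff i
    haveI : IsAffine (r ⁻¹ᵁ D i : Scheme) := by rw [hpre]; exact haff i
    refine IsClosedImmersion.of_surjective_of_isAffine _ ?_
    have hsurj : Function.Surjective (r.appLE (D i) (U i) (hpre i).ge) := by
      refine RingHom.range_eq_top.1 (hG i _ ?_ ?_)
      · rintro _ ⟨c, rfl⟩
        refine ⟨(CohB1.ProjSpace.toSpec n R).appLE ⊤ (D i) le_top ((Scheme.ΓSpecIso (CommRingCat.of R)).inv c), ?_⟩
        rw [← CommRingCat.comp_apply, Scheme.Hom.appLE_comp_appLE]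
        simp only [hr]
        rfl
      · intro b hb
        refine ⟨(Proj.awayToSection (CohB1.polyGrading n R) (MvPolynomial.X (e.symm (Sum.inl i)))).hom
          (Away.mk (CohB1.polyGrading n R) (ProjPt.X_mem _) 1 (MvPolynomial.X (e.symm (Sum.inr (some ⟨i, b, hb⟩))))
            (by rw [one_smul]; exact ProjPt.X_mem _)), ?_⟩
        refine ratioOf_eq r τ _ _ (hτS i) (hτT ⟨i, b, hb⟩) (hpre i).ge b ?_
        refine (hT ⟨i, b, hb⟩).trans ?_
        rw [res_tmul, AmpleX.res_powElt, show AModX.res (Coh.structureModule X) (le_top : U i ≤ ⊤)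
          (show Γ(Coh.structureModule X, ⊤) from (1 : Γ(X, ⊤))) = (1 : Γ(X, U i)) from map_one (AModX.resR _)]
        rw [← tmul_smul_left]
        congr 1
        exact (mul_one b).symm
    intro z
    rw [morphismRestrict_appTop]
    obtain ⟨y, hy⟩ := hsurj (X.presheaf.map (eqToHom (hpre i).symm).op
      ((r ⁻¹ᵁ D i).topIso.hom z))
    refine ⟨(D i).topIso.inv y, (ConcreteCategory.bijective_of_isIso (r ⁻¹ᵁ D i).topIso.hom).1 ?_⟩
    apply (ConcreteCategory.bijective_of_isIso (X.presheaf.map (eqToHom (hpre i).symm).op)).1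
    rw [← hy]
    simp only [← CommRingCat.comp_apply]
    congr 2
    simp only [Scheme.Hom.appLE, Scheme.Opens.topIso, Category.assoc]
    simp [← Functor.map_comp]
    rw [r.naturality_assoc, ← Functor.map_comp]
    rfl
  let E : (CohB1.ProjSpace n R).Opens := ⟨(Set.range r)ᶜ, r.isClosedMap.isClosed_range.isOpen_compl⟩
  have hE : IsClosedImmersion (r ∣_ E) := by
    haveI : IsEmpty (r ⁻¹ᵁ E : Scheme) := ⟨fun x => x.2 ⟨x.1, rfl⟩⟩
    infer_instance
  refine IsZariskiLocalAtTarget.of_iSup_eq_top (P := @IsClosedImmersion) (fun o : Option κ => o.elim E D) ?_ ?_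
  · refine top_le_iff.1 fun y _ => ?_
    by_cases hy : y ∈ Set.range r
    · obtain ⟨x, rfl⟩ := hy
      obtain ⟨i, hi⟩ := hcov x
      exact Opens.mem_iSup.2 ⟨some i, show x ∈ r ⁻¹ᵁ D i from (hpre i).ge hi⟩
    · exact Opens.mem_iSup.2 ⟨none, hy⟩
  · rintro (_ | i)
    · exact hE
    · exact hloc i

end Groth.Agent.PicGlue
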