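import Groth.Agent.H23.CocycleMod
import Groth.Agent.InvX.GenLocusPull
import Groth.Agent.InvX.Frame
import Groth.Agent.PicClLib.Basic

/-!
# Descending invertible modules along families of morphisms by lifting transition functions
-/

universe u v

open CategoryTheory AlgebraicGeometry TopologicalSpace

set_option backward.isDefEq.respectTransparency false
set_option backward.isDefEq.respectTransparency.types false

namespace Groth.Agent.PicGlue

open Groth.Agent Groth.Agent.H23

variable {X Y : Scheme.{u}}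

/-- Two modules with frames having the same transition functions are isomorphic. -/
theorem nonempty_iso_of_frames {M N : X.Modules} {ι : Type u} (U : ι → X.Opens)
    (hcov : ∀ x, ∃ a, x ∈ U a) {e : ∀ a, Γ(M, U a)} (he : ∀ a, InvX.IsFrame (e a))
    {n : ∀ a, Γ(N, U a)} (hn : ∀ a, InvX.IsFrame (n a))
    (hc : ∀ (a b : ι) (W : X.Opens) (ha : W ≤ U a) (hb : W ≤ U b) (g : Γ(X, W)),
      AModX.res M hb (e b) = g • AModX.res M ha (e a) → AModX.res N hb (n b) = g • AModX.res N ha (n a)) :
    Nonempty (M ≅ N) := by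
  have hc' : ∀ (a b : ι) (W : X.Opens) (ha : W ≤ U a) (hb : W ≤ U b) (g : Γ(X, W)),
      AModX.res N hb (n b) = g • AModX.res N ha (n a) → AModX.res M hb (e b) = g • AModX.res M ha (e a) :=
    fun a b W ha hb g h => by
      obtain ⟨g', hg'⟩ := (he a).exists_coord ha (AModX.res M hb (e b))
      rw [(hn a).coord_unique ha (h.symm.trans (hc a b W ha hb g' hg'))]
      exact hg'
  exact ⟨{ hom := InvX.ofFrames hcov he hc
           inv := InvX.ofFrames hcov hn hc'
           hom_inv_id := InvX.hom_ext_of_frames U hcov e he fun a => by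
             show (InvX.ofFrames hcov hn hc').app (U a) ((InvX.ofFrames hcov he hc).app (U a) (e a)) = e a
             rw [InvX.ofFrames_app, InvX.ofFrames_app]
           inv_hom_id := InvX.hom_ext_of_frames U hcov n hn fun a => by
             show (InvX.ofFrames hcov he hc).app (U a) ((InvX.ofFrames hcov hn hc').app (U a) (n a)) = n a
             rw [InvX.ofFrames_app, InvX.ofFrames_app] }⟩

theorem app_resR (π : X ⟶ Y) {W V : Y.Opens} (h : V ≤ W) (a : Γ(Y, W)) :
    AModX.resR (π.preimage_mono h) (π.app W a) = π.app V (AModX.resR h a) :=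
  (ConcreteCategory.congr_hom (π.naturality (homOfLE h).op) a).symm

/-- A cocycle lifting the transition functions gives a descended invertible module. -/
theorem exists_glue {κ : Type v} {Z : κ → Scheme.{u}} (π : ∀ k, Z k ⟶ Y) {L : ∀ k, (Z k).Modules}
    {ι : Type u} {U : ι → Y.Opens} (hU : ∀ y, ∃ i, y ∈ U i) {e : ∀ k i, Γ(L k, π k ⁻¹ᵁ U i)}
    (he : ∀ k i, InvX.IsFrame (e k i)) (t : CocycleMod.Cocycle U)
    (ht : ∀ k i j, AModX.res (L k) ((π k).preimage_mono (inf_le_left : U i ⊓ U j ≤ U i)) (e k i) =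
      (π k).app (U i ⊓ U j) (t.g i j : Γ(Y, U i ⊓ U j)) •
        AModX.res (L k) ((π k).preimage_mono (inf_le_right : U i ⊓ U j ≤ U j)) (e k j)) :
    ∃ N : Y.Modules, PicF.IsInvertible N ∧
      ∀ k, Nonempty ((Scheme.Modules.pullback (π k)).obj N ≅ L k) := by
  let N := CocycleMod.mod t
  refine ⟨N, CocycleMod.isInvertible t (eq_top_iff.2 fun y _ => Opens.mem_iSup.2 (hU y)), fun k => ?_⟩
  have hf : ∀ i, InvX.IsFrame (InvX.pullElt (π k) (CocycleMod.frame t i)) := fun i =>
    InvX.isFrame_pullElt (π k) (CocycleMod.isFrame_frame t i)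
  refine nonempty_iso_of_frames (fun i => π k ⁻¹ᵁ U i) (fun x => hU (π k x)) hf (he k)
    fun a b W ha hb g hg => ?_
  have hW : W ≤ π k ⁻¹ᵁ (U b ⊓ U a) := fun x hx => ⟨hb hx, ha hx⟩
  have h1 := congrArg (InvX.pullElt (π k)) (CocycleMod.res_frame t b a)
  rw [InvX.pullElt_smul, ← InvX.res_pullElt (π k) inf_le_left, ← InvX.res_pullElt (π k) inf_le_right] at h1
  have h2 := congrArg (AModX.res _ hW) h1
  rw [AModX.res_res, AModX.res_smul, AModX.res_res] at h2
  have hg' : g = AModX.resR hW ((π k).app (U b ⊓ U a) (t.g b a : Γ(Y, U b ⊓ U a))) :=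
    (hf a).coord_unique ha (hg.symm.trans h2)
  have h3 := congrArg (AModX.res (L k) hW) (ht k b a)
  rw [AModX.res_res, AModX.res_smul, AModX.res_res] at h3
  rw [hg']
  exact h3

/-- Gluing over a cover whose pairwise overlaps lie in an open over which the units are uniquely liftable. -/
theorem exists_glue_of_joint_iso {κ : Type v} {Z : κ → Scheme.{u}} (π : ∀ k, Z k ⟶ Y) {L : ∀ k, (Z k).Modules}
    {ι : Type u} {U : ι → Y.Opens} (hU : ∀ y, ∃ i, y ∈ U i) {e : ∀ k i, Γ(L k, π k ⁻¹ᵁ U i)}
    (he : ∀ k i, InvX.IsFrame (e k i)) (V : Y.Opens) (hUV : ∀ i j, i ≠ j → U i ⊓ U j ≤ V)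
    (hbij : ∀ W ≤ V, Function.Bijective fun (g : Γ(Y, W)) k => (π k).app W g) :
    ∃ N : Y.Modules, PicF.IsInvertible N ∧
      ∀ k, Nonempty ((Scheme.Modules.pullback (π k)).obj N ≅ L k) := by
  classical
  choose c hc using fun k i j => (he k j).exists_coord ((π k).preimage_mono (inf_le_right : U i ⊓ U j ≤ U j))
    (AModX.res (L k) ((π k).preimage_mono (inf_le_left : U i ⊓ U j ≤ U i)) (e k i))
  have hcW : ∀ k (i j : ι) (W : Y.Opens) (hi : W ≤ U i) (hj : W ≤ U j),
      AModX.res (L k) ((π k).preimage_mono hi) (e k i) =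
        AModX.resR ((π k).preimage_mono (le_inf hi hj)) (c k i j) • AModX.res (L k) ((π k).preimage_mono hj) (e k j) := by
    intro k i j W hi hj
    have h := congrArg (AModX.res (L k) ((π k).preimage_mono (le_inf hi hj))) (hc k i j)
    rwa [AModX.res_res, AModX.res_smul, AModX.res_res] at h
  have hone : ∀ k i, c k i i = 1 := fun k i => by
    refine (he k i).coord_unique ((π k).preimage_mono inf_le_right) ?_
    rw [← hc k i i, one_smul]
  have hex : ∀ i j, ∃ g : Γ(Y, U i ⊓ U j), ∀ k, (π k).app (U i ⊓ U j) g = c k i j := fun i j => by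
    by_cases h : i = j
    · subst h
      exact ⟨1, fun k => by rw [map_one, hone]⟩
    · obtain ⟨g, hg⟩ := (hbij _ (hUV i j h)).2 fun k => c k i j
      exact ⟨g, congrFun hg⟩
  let g : ∀ i j, Γ(Y, U i ⊓ U j) := fun i j => if h : i = j then 1 else (hex i j).choose
  have hg : ∀ i j k, (π k).app (U i ⊓ U j) (g i j) = c k i j := fun i j k => by
    by_cases h : i = j
    · subst h
      simp only [g, dif_pos rfl, map_one, hone]
    · simp only [g, dif_neg h]
      exact (hex i j).choose_spec k
  have htrans : ∀ (i j l : ι) (W : Y.Opens) (hi : W ≤ U i) (hj : W ≤ U j) (hl : W ≤ U l),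
      AModX.resR (le_inf hi hl) (g i l) = AModX.resR (le_inf hj hl) (g j l) * AModX.resR (le_inf hi hj) (g i j) := by
    intro i j l W hi hj hl
    by_cases hall : i = j ∧ j = l
    · obtain ⟨rfl, rfl⟩ := hall
      simp only [g, dif_pos rfl, map_one, mul_one]
    have hWV : W ≤ V := by
      rcases not_and_or.1 hall with h | h
      · exact (le_inf hi hj).trans (hUV i j h)
      · exact (le_inf hj hl).trans (hUV j l h)
    refine (hbij W hWV).1 (funext fun k => ?_)
    simp only [map_mul, ← app_resR, hg]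
    refine (he k l).coord_unique ((π k).preimage_mono hl) ?_
    rw [← hcW k i l W hi hl, mul_comm, mul_smul, ← hcW k j l W hj hl, ← hcW k i j W hi hj]
  have hu : ∀ i j, IsUnit (g i j) := fun i j => by
    have h := htrans i j i (U i ⊓ U j) inf_le_left inf_le_right inf_le_left
    rw [show g i i = 1 from dif_pos rfl, map_one] at h
    have h2 := IsUnit.of_mul_eq_one_right _ h.symm
    rwa [AModX.resR_self] at h2
  let t : CocycleMod.Cocycle U :=
    { g := fun i j => (hu i j).unit
      trans := fun i j l W hi hj hl => htrans i j l W hi hj hl }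
  exact exists_glue π hU he t fun k i j => by
    show _ = (π k).app _ (g i j) • _
    rw [hg]
    exact hc k i j

/-- The cocycle from units on the intersections with a central open. -/
theorem exists_starCocycle {ι : Type u} (U : ι → Y.Opens) (V : Y.Opens) (hUV : ∀ i j, i ≠ j → U i ⊓ U j ≤ V)
    (u : ∀ i, (Γ(Y, U i ⊓ V))ˣ) :
    ∃ t : CocycleMod.Cocycle U, (∀ i, (t.g i i : Γ(Y, U i ⊓ U i)) = 1) ∧
      ∀ i j (h : i ≠ j), (t.g i j : Γ(Y, U i ⊓ U j)) =
        AModX.resR (le_inf inf_le_left (hUV i j h)) (u i : Γ(Y, U i ⊓ V)) *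
          AModX.resR (le_inf inf_le_right (hUV i j h)) ((u j)⁻¹ : (Γ(Y, U j ⊓ V))ˣ).1 := by
  classical
  let cW : ∀ (i : ι) (W : Y.Opens), W ≤ U i → W ≤ V → (Γ(Y, W))ˣ := fun i W h h' =>
    Units.map (AModX.resR (le_inf h h')).toMonoidHom (u i)
  let g : ∀ i j, (Γ(Y, U i ⊓ U j))ˣ := fun i j => if h : i = j then 1 else
    cW i _ inf_le_left (hUV i j h) * (cW j _ inf_le_right (hUV i j h))⁻¹
  have hres : ∀ (i : ι) {W W' : Y.Opens} (h : W ≤ U i) (h' : W ≤ V) (hW : W' ≤ W),
      Units.map (AModX.resR hW).toMonoidHom (cW i W h h') = cW i W' (hW.trans h) (hW.trans h') :=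
    fun i W W' h h' hW => Units.ext (AModX.resR_resR _ _ _)
  have hgW : ∀ (i j : ι) (W : Y.Opens) (h : W ≤ U i) (h' : W ≤ U j) (hV : W ≤ V),
      Units.map (AModX.resR (le_inf h h')).toMonoidHom (g i j) = cW i W h hV * (cW j W h' hV)⁻¹ := by
    intro i j W h h' hV
    by_cases e : i = j
    · subst e
      simp only [g, dif_pos rfl, map_one, mul_inv_cancel]
    · simp only [g, dif_neg e, map_mul, map_inv, hres]
  refine ⟨{ g := g, trans := fun i j k W hi hj hk => ?_ }, fun i => ?_, fun i j h => ?_⟩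
  · by_cases hall : i = j ∧ j = k
    · obtain ⟨rfl, rfl⟩ := hall
      simp only [g, dif_pos rfl, Units.val_one, map_one, mul_one]
    have hV : W ≤ V := by
      rcases not_and_or.1 hall with h | h
      · exact (le_inf hi hj).trans (hUV i j h)
      · exact (le_inf hj hk).trans (hUV j k h)
    have key : Units.map (AModX.resR (le_inf hi hk)).toMonoidHom (g i k) =
        Units.map (AModX.resR (le_inf hj hk)).toMonoidHom (g j k) *
          Units.map (AModX.resR (le_inf hi hj)).toMonoidHom (g i j) := by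
      rw [hgW i k W hi hk hV, hgW j k W hj hk hV, hgW i j W hi hj hV]
      rw [mul_comm (cW j W hj hV * _), mul_assoc, inv_mul_cancel_left]
    exact congrArg Units.val key
  · simp only [g, dif_pos rfl, Units.val_one]
  · simp only [g, dif_neg h, cW, Units.val_mul, ← map_inv]
    rfl

end Groth.Agent.PicGlue
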