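import Groth.Agent.PicGlue.Punct
import Groth.Agent.AmpleX.Locus

/-!
# Sections with prescribed locus and extension of invertible modules across points of dimension at most one
-/

universe u

open CategoryTheory AlgebraicGeometry TopologicalSpace

set_option backward.isDefEq.respectTransparency false
set_option backward.isDefEq.respectTransparency.types false

namespace Groth.Agent.PicGlue

open Groth.Agent

variable {X : Scheme.{u}}

theorem exists_section_genLocus_eq (U : X.Opens) [QuasiCompact U.ι] (hdisc : DiscreteTopology ↥((U : Set X)ᶜ))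
    (hloc : ∀ x : X, x ∉ U → IsNoetherianRing (X.presheaf.stalk x) ∧ ringKrullDim (X.presheaf.stalk x) ≤ 1) :
    ∃ (L : X.Modules) (s : Coh.structureModule X ⟶ L), PicF.IsInvertible L ∧ CohB1.genLocus L s = U := by
  classical
  let F := {x : X // x ∉ U}
  have hp : ∀ x : F, ∃ (W : X.Opens) (f : Γ(X, W)), IsAffineOpen W ∧ x.1 ∈ W ∧
      (∀ z ∈ W, z ∉ U → z = x.1) ∧ W ⊓ U = X.basicOpen f := fun x => by
    haveI := (hloc x.1 x.2).1
    exact exists_punctured U hdisc x.2 (hloc x.1 x.2).2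
  choose W f _ hxW hWiso hWU using hp
  let P : Option F → X.Opens := fun o => o.elim U W
  have hPU : ∀ i j, i ≠ j → P i ⊓ P j ≤ U := by
    intro i j hne z hz
    rcases i with _ | x
    · exact hz.1
    rcases j with _ | x'
    · exact hz.2
    by_contra hzU
    exact hne (congrArg some (Subtype.ext ((hWiso x z hz.1 hzU).symm.trans (hWiso x' z hz.2 hzU))))
  let b : ∀ o, Γ(X, P o) := fun o => match o with
    | none => 1
    | some x => f x
  have hb : ∀ o, P o ⊓ U = X.basicOpen (b o) := fun o => by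
    rcases o with _ | x
    · show U ⊓ U = X.basicOpen (1 : Γ(X, U))
      rw [inf_idem, X.basicOpen_of_isUnit isUnit_one]
    · exact hWU x
  have hbu : ∀ o, IsUnit (AModX.resR (inf_le_left : P o ⊓ U ≤ P o) (b o)) := fun o =>
    AModX.isUnit_resR _ _ (hb o).le
  obtain ⟨t, ht1, ht2⟩ := exists_starCocycle P U hPU fun o => (hbu o).unit⁻¹
  let M := H23.CocycleMod.mod t
  have hcov : ∀ y : X, ∃ o, y ∈ P o := fun y =>
    if h : y ∈ U then ⟨none, h⟩ else ⟨some ⟨y, h⟩, hxW ⟨y, h⟩⟩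
  obtain ⟨s, hs, -⟩ := AModX.existsUnique_glue (M := M) (V := (⊤ : X.Opens)) P (fun _ => le_top)
    (fun y _ => hcov y) (fun o => b o • H23.CocycleMod.frame t o) (fun i j => by
      by_cases hij : i = j
      · subst hij; rfl
      have hU := hPU i j hij
      rw [AModX.res_smul, AModX.res_smul, H23.CocycleMod.res_frame, ← mul_smul, ht2 i j hij]
      congr 1
      rw [inv_inv, ← mul_assoc,
        ← AModX.resR_resR (inf_le_left : P i ⊓ U ≤ P i) (le_inf inf_le_left hU) (b i), ← map_mul,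
        IsUnit.mul_val_inv, map_one, one_mul, IsUnit.unit_spec, AModX.resR_resR])
  refine ⟨M, InvX.ofSect s, H23.CocycleMod.isInvertible t (eq_top_iff.2 fun y _ => Opens.mem_iSup.2 (hcov y)), ?_⟩
  rw [AmpleX.genLocus_eq_locus, InvX.one_ofSect]
  refine Opens.ext (Set.ext fun y => ?_)
  obtain ⟨o, ho⟩ := hcov y
  have h := AmpleX.locus_inf s le_top (H23.CocycleMod.isFrame_frame t o) (hs o)
  rw [← hb o] at h
  have h2 := congrArg (fun O : X.Opens => y ∈ O) h
  simp only [Opens.mem_inf, ho, and_true, true_and, eq_iff_iff] at h2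
  exact h2

theorem exists_extend (U : X.Opens) [QuasiCompact U.ι] (hdisc : DiscreteTopology ↥((U : Set X)ᶜ))
    (hloc : ∀ x : X, x ∉ U → IsNoetherianRing (X.presheaf.stalk x) ∧ ringKrullDim (X.presheaf.stalk x) ≤ 1)
    (N : (↑U : Scheme.{u}).Modules) (hN : PicF.IsInvertible N) :
    ∃ L : X.Modules, PicF.IsInvertible L ∧ Nonempty (L.restrict U.ι ≅ N) := by
  have hfr : ∀ y : X, ∃ (W : X.Opens) (_ : y ∈ W) (e : Γ(N, U.ι ⁻¹ᵁ W)), InvX.IsFrame e ∧
      ∀ z ∈ W, z ∉ U → z = y := by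
    intro y
    by_cases hy : y ∈ U
    · obtain ⟨O, hO, e, he⟩ := InvX.exists_frame hN ⟨y, hy⟩
      refine ⟨U.ι ''ᵁ O, ⟨_, hO, rfl⟩, AModX.res N (U.ι.preimage_image_eq O).le e, he.res _, ?_⟩
      rintro z ⟨z', -, rfl⟩ hzU
      exact absurd z'.2 hzU
    · haveI := (hloc y hy).1
      obtain ⟨W, f, hW, hyW, hWiso, hWU⟩ := exists_punctured U hdisc hy (hloc y hy).2
      obtain ⟨hfin, hns⟩ := generalisations (x := y) (hloc y hy).2
      let Fs : Set U.toScheme := U.ι ⁻¹' {z | z ⤳ y ∧ z ≠ y}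
      have hA : IsAffineOpen (U.ι ⁻¹ᵁ X.basicOpen f) := by
        refine (U.ι.isAffineOpen_iff_of_isOpenImmersion).1 ?_
        rw [Scheme.Hom.image_preimage_eq_opensRange_inf, Scheme.Opens.opensRange_ι, ← hWU,
          inf_left_comm, inf_idem, hWU]
        exact hW.basicOpen f
      obtain ⟨O, s, hFO, hs⟩ := InvUfdLib.exists_frame_finset hN hA Fs
        (hfin.preimage U.ι.isOpenEmbedding.injective.injOn)
        (fun z ⟨hz, hne⟩ => by
          show z.1 ∈ X.basicOpen f
          rw [← hWU]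
          exact ⟨hz.mem_open W.isOpen hyW, z.2⟩)
        (fun z ⟨hz, hne⟩ w ⟨hw, hwne⟩ hzw =>
          Subtype.ext (hns z.1 hz hne w.1 hw hwne (hzw.map U.ι.continuous)))
      obtain ⟨c, hyc, hc⟩ := exists_shrink hW hyW f (U.ι ''ᵁ O) fun z hz hzf => by
        rw [← hWU] at hzf
        exact ⟨⟨z, hzf.2⟩, hFO ⟨hz, fun e => hy (show y ∈ U from e ▸ hzf.2)⟩, rfl⟩
      have hle : U.ι ⁻¹ᵁ X.basicOpen c ≤ O := fun z hz => by
        have h1 : z.1 ∈ W ⊓ U := ⟨X.basicOpen_le c hz, z.2⟩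
        rw [hWU] at h1
        obtain ⟨z', hz', e⟩ := hc (show z.1 ∈ X.basicOpen (c * f) by rw [Scheme.basicOpen_mul]; exact ⟨hz, h1⟩)
        exact Subtype.ext (e : z'.1 = z.1) ▸ hz'
      exact ⟨X.basicOpen c, hyc, AModX.res N hle s, hs.res hle,
        fun z hz hzU => hWiso z (X.basicOpen_le c hz) hzU⟩
  choose W hyW e he hWiso using hfr
  obtain ⟨L, hL, hiso⟩ := exists_glue_of_joint_iso (κ := PUnit.{1}) (fun _ => U.ι) (L := fun _ => N)
    (U := W) (fun y => ⟨y, hyW y⟩) (e := fun _ => e) (fun _ => he) U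
    (fun i j hne z hz => by
      by_contra hzU
      exact hne ((hWiso i z hz.1 hzU).symm.trans (hWiso j z hz.2 hzU)))
    (fun V hV => by
      haveI : IsIso (U.ι.app V) := U.ι.isIso_app V (by rw [Scheme.Opens.opensRange_ι]; exact hV)
      have hb : Function.Bijective (U.ι.app V) := ConcreteCategory.bijective_of_isIso (U.ι.app V)
      exact ⟨fun a b h => hb.1 (congrFun h ⟨⟩), fun c => ⟨(hb.2 (c ⟨⟩)).choose, funext fun k => (hb.2 (c ⟨⟩)).choose_spec⟩⟩)
  obtain ⟨φ⟩ := hiso ⟨⟩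
  exact ⟨L, hL, ⟨(Scheme.Modules.restrictFunctorIsoPullback U.ι).app L ≪≫ φ⟩⟩

end Groth.Agent.PicGlue
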