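import Groth.Agent.PicGlue.AmpleLocusAffine
import Groth.Agent.PicGlue.Extend
import Groth.Agent.PicGlue.AmpleDimOne
import Groth.Agent.AmpleDev.Nef
import Groth.Agent.S1519

/-!
# Opens meeting every curve in a proper scheme of dimension one in a proper subset are affine
-/

universe u

open CategoryTheory AlgebraicGeometry TopologicalSpace

set_option linter.style.haveILetI false
set_option backward.isDefEq.respectTransparency false
set_option backward.isDefEq.respectTransparency.types false

namespace Groth.Agent.PicGlue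

open Groth.Agent

variable {Y : Scheme.{u}}

theorem locus_zero {M : Y.Modules} (hM : PicF.IsInvertible M) {U : Y.Opens} :
    AmpleX.locus (0 : Γ(M, U)) = ⊥ := by
  refine Opens.ext (Set.eq_empty_of_forall_notMem fun y hy => ?_)
  have hyU : y ∈ U := AmpleX.locus_le _ hy
  obtain ⟨V₀, hyV, e, he⟩ := InvX.exists_frame hM y
  have h := AmpleX.locus_inf (0 : Γ(M, U)) (inf_le_right : V₀ ⊓ U ≤ U) (he.res inf_le_left)
    (g := 0) (by rw [zero_smul]; exact map_zero _)
  have h2 : y ∈ AmpleX.locus (0 : Γ(M, U)) ⊓ (V₀ ⊓ U) := ⟨hy, hyV, hyU⟩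
  rw [h, Scheme.basicOpen_zero] at h2
  exact h2

variable (k : Type u) [Field k] [Y.Over (Spec (CommRingCat.of k))]

include k in
theorem isAffineOpen_of_meets [IsProper (Y ↘ Spec (CommRingCat.of k))] [IsNoetherian Y]
    (hdim : topologicalKrullDim Y ≤ 1) (O : Y.Opens) (hO : genericPoints Y ⊆ (O : Set Y))
    (hmeet : ∀ C ∈ irreducibleComponents (Y : Type u), topologicalKrullDim C = 1 → ∃ y ∈ C, y ∉ O) :
    IsAffineOpen O := by
  classical
  obtain ⟨hfin, hcl⟩ := finite_compl hdim O hO
  haveI : Finite ↥((O : Set Y)ᶜ) := hfin.to_subtype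
  haveI : T1Space ↥((O : Set Y)ᶜ) := ⟨fun z => by
    have := (hcl z.1 z.2).preimage (continuous_subtype_val (p := fun w => w ∈ ((O : Set Y)ᶜ)))
    rwa [show Subtype.val ⁻¹' ({z.1} : Set Y) = ({z} : Set ↥((O : Set Y)ᶜ)) from
      Set.ext fun w => ⟨fun h => Subtype.ext h, fun h => congrArg Subtype.val h⟩] at this⟩
  obtain ⟨L, s, hL, hs⟩ := exists_section_genLocus_eq O inferInstance
    fun y _ => ⟨inferInstance, ringKrullDim_stalk_le_one hdim y⟩
  have hlocus : AmpleX.locus (InvX.one s) = O := by rw [← AmpleX.genLocus_eq_locus]; exact hs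
  have hamp : CohB1.IsAmple L := by
    refine AmpleDev.isAmple_of_deg_pos_components k hdim hL fun C hC hC1 => ?_
    obtain ⟨ξ, hξ⟩ := QuasiSober.sober hC.1 (isClosed_of_mem_irreducibleComponents _ hC)
    let I := (Y.irreducibleComponentIdeal C hC).radical
    haveI : IsIntegral I.subscheme := by
      show IsIntegral (Y.irreducibleComponentIdeal C hC).radical.subscheme
      rw [← Scheme.IdealSheafData.vanishingIdeal_support,
        show (Y.irreducibleComponentIdeal C hC).support = TopologicalSpace.Closeds.closure {ξ} from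
          TopologicalSpace.Closeds.ext hξ.def.symm]
      exact QCoh.isIntegral_closure_point ξ
    letI : I.subscheme.Over (Spec (CommRingCat.of k)) := ⟨I.subschemeι ≫ (Y ↘ Spec (CommRingCat.of k))⟩
    haveI : IsProper (I.subscheme ↘ Spec (CommRingCat.of k)) :=
      inferInstanceAs (IsProper (I.subschemeι ≫ (Y ↘ Spec (CommRingCat.of k))))
    have hsupp : (I.support : Set Y) = C := by
      show ((Y.irreducibleComponentIdeal C hC).radical.support : Set Y) = C
      rw [Scheme.IdealSheafData.support_radical]
      rfl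
    have hr : Set.range I.subschemeι = C := by rw [I.range_subschemeι, hsupp]
    let t : Γ((Scheme.Modules.pullback I.subschemeι).obj L, (⊤ : I.subscheme.Opens)) :=
      InvX.pullElt I.subschemeι (InvX.one s)
    have ht : AmpleX.locus t = I.subschemeι ⁻¹ᵁ O := by
      rw [← hlocus]
      exact AmpleX.locus_pullElt hL I.subschemeι (InvX.one s)
    have hgen : ξ ∈ genericPoints Y := by show closure ({ξ} : Set Y) ∈ irreducibleComponents (Y : Type u); rw [hξ.def]; exact hC
    obtain ⟨y, hyC, hyO⟩ := hmeet C hC hC1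
    obtain ⟨z, rfl⟩ : y ∈ Set.range I.subschemeι := hr ▸ hyC
    obtain ⟨w, hw⟩ : ξ ∈ Set.range I.subschemeι := hr ▸ hξ.mem
    refine S1519.result k I.subscheme ((AmpleDev.dim_subscheme k I).trans (by rw [hsupp]; exact hC1)) _
      (PicClLib.isInvertible_pullback _ hL) (InvX.ofSect t) (fun h0 => ?_) z ?_
    · have h1 : w ∈ AmpleX.locus t := by
        rw [ht]
        show I.subschemeι w ∈ O
        rw [hw]
        exact hO hgen
      have ht0 : t = 0 := by
        rw [← InvX.one_ofSect t, h0]
        rfl
      rw [ht0, locus_zero (PicClLib.isInvertible_pullback _ hL)] at h1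
      exact h1
    · rw [AmpleX.genLocus_eq_locus, InvX.one_ofSect, ht]
      exact hyO
  have := isAffineOpen_locus (Y ↘ Spec (CommRingCat.of k)) hamp (InvX.one s)
  rwa [hlocus] at this

end Groth.Agent.PicGlue
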