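import Groth.Agent.KFlatLib.Scheme.RpushBound

/-!
# Higher direct images along affine morphisms vanish
-/

universe u

set_option backward.isDefEq.respectTransparency false
set_option backward.isDefEq.respectTransparency.types false
set_option linter.style.haveILetI false

open CategoryTheory CategoryTheory.Limits AlgebraicGeometry TopologicalSpace Opposite

namespace Groth.Agent.PicGlue

open Groth.Agent Groth.Agent.QCoh Groth.Agent.KFlatLib

variable {X Y : Scheme.{u}} (f : X ⟶ Y) [HasInjectiveResolutions X.Modules]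

/-- Higher direct images along an affine morphism vanish near an affine open. -/
theorem isZero_Rpush_near [IsAffineHom f] {V₀ : Y.Opens} (hV₀ : IsAffineOpen V₀) (M : X.Modules)
    (hM : Coh.IsQCoh M) (p : ℕ) (hp : 0 < p) :
    IsZero ((Scheme.Modules.restrictFunctor V₀.ι).obj ((Coh.Rpush f p).obj M)) := by
  obtain ⟨q, rfl⟩ := Nat.exists_eq_add_of_le (show 1 ≤ p by omega)
  rw [Nat.add_comm]
  obtain ⟨e⟩ := nonempty_Rpush_iso f M q
  let R := Scheme.Modules.restrictFunctor V₀.ι
  let g := (Scheme.Modules.pushforward f).map (godπ M q)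
  haveI : R.IsLeftAdjoint := (Scheme.Modules.restrictAdjunction V₀.ι).isLeftAdjoint
  haveI : Epi (R.map g) := by
    haveI : (toAbFunctor V₀.toScheme).Faithful :=
      inferInstanceAs (SheafOfModules.toSheaf _).Faithful
    haveI : Epi ((toAbFunctor V₀.toScheme).map (R.map g)) := by
      refine (TopCat.Sheaf.isLocallySurjective_iff_epi _).1
        ((TopCat.Presheaf.isLocallySurjective_iff _).2 fun U t y hy => ?_)
      have hy' : y.1 ∈ V₀.ι ''ᵁ U := ⟨y, hy, rfl⟩
      obtain ⟨b, hb, hyb⟩ := hV₀.exists_basicOpen_le (V := V₀.ι ''ᵁ U) ⟨y.1, hy'⟩ y.2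
      refine ⟨V₀.ι ⁻¹ᵁ Y.basicOpen b, fun z hz => ?_, ?_, hyb⟩
      · obtain ⟨z', hz', he⟩ := hb hz
        exact Subtype.ext he ▸ hz'
      have hsub : Subsingleton (CohTop.HU (X := X.toPresheafedSpace.carrier) (abSheaf M) (q + 1)
          (f ⁻¹ᵁ (V₀.ι ''ᵁ (V₀.ι ⁻¹ᵁ Y.basicOpen b)))) := by
        rw [V₀.ι.image_preimage_eq_opensRange_inf, Scheme.Opens.opensRange_ι,
          inf_eq_right.2 (Y.basicOpen_le b)]
        exact subsingleton_HU_of_isAffineOpen hM ((hV₀.basicOpen b).preimage f) _
      exact godπ_app_surjective hsub _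
    exact (toAbFunctor V₀.toScheme).epi_of_epi_map inferInstance
  exact ((isZero_cokernel_of_epi (R.map g)).of_iso (PreservesCokernel.iso R g)).of_iso
    (R.mapIso e)

/-- Higher direct images along an affine morphism vanish. -/
theorem isZero_Rpush_of_isAffineHom [IsAffineHom f] (M : X.Modules) (hM : Coh.IsQCoh M) (p : ℕ) (hp : 0 < p) :
    IsZero ((Coh.Rpush f p).obj M) := by
  refine isZero_of_isZero_restrict _ fun y => ?_
  obtain ⟨_, ⟨V, hV, rfl⟩, hy, -⟩ :=
    Y.isBasis_affineOpens.exists_subset_of_mem_open (Set.mem_univ y) isOpen_univ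
  exact ⟨V, hy, isZero_Rpush_near f hV M hM p hp⟩

end Groth.Agent.PicGlue
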