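import Groth.Agent.PicGlue.AffineCompl
import Groth.Agent.S1625
import Mathlib.AlgebraicGeometry.Morphisms.Immersion

/-!
# Curves without proper components are affine
-/

universe u

open CategoryTheory AlgebraicGeometry TopologicalSpace

set_option linter.style.haveILetI false
set_option backward.isDefEq.respectTransparency false
set_option backward.isDefEq.respectTransparency.types false

namespace Groth.Agent.PicGlue

open Groth.Agent

variable {k : Type u} [Field k]

theorem topologicalKrullDim_le_of_dense {X Y : Scheme.{u}} (g : Y ⟶ Spec (CommRingCat.of k)) [LocallyOfFiniteType g]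
    [NoetherianSpace Y] (j : X ⟶ Y) [IsOpenImmersion j] (hj : Dense (Set.range j.base)) :
    topologicalKrullDim Y ≤ topologicalKrullDim X := by
  rw [VarDim.topologicalKrullDim_eq_iSup_deg g, VarDim.topologicalKrullDim_eq_iSup_deg (j ≫ g)]
  refine iSup_le fun z => ?_
  let η := genericPoints.ofComponent ⟨_, irreducibleComponent_mem_irreducibleComponents z⟩
  have hspec : (η : Y) ⤳ z := by
    refine (genericPoints.isGenericPoint η).specializes ?_
    rw [genericPoints.component_ofComponent]
    exact mem_irreducibleComponent
  obtain ⟨x, hx⟩ := (genericPoints_subset_of_dense (V := j.opensRange) hj) η.2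
  have h1 := VarDim.deg_le_of_specializes g hspec
  rw [← hx, ← VarDim.deg_comp g j x] at h1
  exact le_iSup_of_le x (by exact_mod_cast h1)

/-- A separated scheme of finite type and dimension at most one is affine if no one-dimensional component of it
is closed in a projective compactification. -/
theorem isAffine_of_no_proper_component (X : Scheme.{u}) [X.Over (Spec (CommRingCat.of k))]
    [IsSeparated (X ↘ (Spec (CommRingCat.of k)))] [LocallyOfFiniteType (X ↘ (Spec (CommRingCat.of k)))]
    [QuasiCompact (X ↘ (Spec (CommRingCat.of k)))] (hdim : topologicalKrullDim X ≤ 1)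
    (h : ∀ (Y : Scheme.{u}) (g : Y ⟶ Spec (CommRingCat.of k)) (j : X ⟶ Y), IsProper g → IsOpenImmersion j →
      Dense (Set.range j.base) → j ≫ g = X ↘ (Spec (CommRingCat.of k)) →
      ∀ C ∈ irreducibleComponents (Y : Type u), topologicalKrullDim C = 1 → ∃ y ∈ C, y ∉ Set.range j.base) :
    IsAffine X := by
  obtain ⟨d, Y, c, j, hc, hj, hfac, hdense, -, -, -⟩ := S1625.result k X hdim
  haveI := hc
  haveI := hj
  haveI : IsProper (CohB1.ProjSpace.toSpec d k) := PnCoh.Chow.isProper_toSpec d k
  let g : Y ⟶ Spec (CommRingCat.of k) := c ≫ CohB1.ProjSpace.toSpec d k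
  haveI : IsProper g := inferInstance
  letI : Y.Over (Spec (CommRingCat.of k)) := ⟨g⟩
  haveI : IsProper (Y ↘ Spec (CommRingCat.of k)) := inferInstanceAs (IsProper g)
  haveI := CurveCohLib.isNoetherian_of_proper (k := k) (X := Y)
  have hO := isAffineOpen_of_meets k ((topologicalKrullDim_le_of_dense g j hdense).trans hdim) j.opensRange
    (genericPoints_subset_of_dense hdense) (h Y g j inferInstance hj hdense hfac)
  haveI : IsAffine (j.opensRange : Scheme) := hO
  exact .of_isIso j.isoOpensRange.hom

theorem isClosedImmersion_comp_of_range {W X Y : Scheme.{u}} (i : W ⟶ X) [IsClosedImmersion i] (j : X ⟶ Y)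
    [IsOpenImmersion j] (h : IsClosed (Set.range (i ≫ j).base)) : IsClosedImmersion (i ≫ j) :=
  .of_isPreimmersion _ h

end Groth.Agent.PicGlue
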