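import Groth.Agent.PicGlue.Glue
import Groth.Agent.NormX.Cases

/-!
# Descent along finite morphisms bijective off a discrete set, and gluing along closed covers
-/

universe u

open CategoryTheory AlgebraicGeometry TopologicalSpace

set_option backward.isDefEq.respectTransparency false
set_option backward.isDefEq.respectTransparency.types false

namespace Groth.Agent.PicGlue

open Groth.Agent

variable {X Y : Scheme.{u}}

theorem app_bijective_of_isIso (f : X ⟶ Y) {W : Y.Opens} [IsIso (f ∣_ W)] : Function.Bijective (f.app W) := by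
  have h : Function.Bijective ((f ∣_ W).appTop) :=
    ConcreteCategory.bijective_of_isIso ((f ∣_ W).appTop)
  rw [morphismRestrict_appTop] at h
  have h2 : Function.Bijective (f.app (W.ι ''ᵁ ⊤)) :=
    (Function.Bijective.of_comp_iff' (ConcreteCategory.bijective_of_isIso
      (X.presheaf.map (eqToHom (image_morphismRestrict_preimage f W ⊤)).op)) _).1 h
  rwa [Scheme.Opens.ι_image_top] at h2

theorem isIso_restrict_of_le (f : X ⟶ Y) {A V : Y.Opens} (h : A ≤ V) [IsIso (f ∣_ V)] : IsIso (f ∣_ A) := by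
  have h1 : IsIso ((f ∣_ V) ∣_ (V.ι ⁻¹ᵁ A)) :=
    IsZariskiLocalAtTarget.restrict (P := MorphismProperty.isomorphisms Scheme) (f := f ∣_ V) inferInstance _
  have e := morphismRestrictRestrict f V (V.ι ⁻¹ᵁ A)
  change MorphismProperty.isomorphisms Scheme ((f ∣_ V) ∣_ (V.ι ⁻¹ᵁ A)) at h1
  rw [MorphismProperty.arrow_mk_iso_iff (MorphismProperty.isomorphisms Scheme) e] at h1
  have he : V.ι ''ᵁ (V.ι ⁻¹ᵁ A) = A := by
    rw [Scheme.Hom.image_preimage_eq_opensRange_inf, Scheme.Opens.opensRange_ι]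
    exact inf_eq_right.2 h
  rw [he] at h1
  exact h1

/-- Isolating a point of a discrete closed complement. -/
theorem exists_isolating (V : Y.Opens) (hdisc : DiscreteTopology ((V : Set Y)ᶜ : Set Y)) (y : Y) :
    ∃ O : Y.Opens, y ∈ O ∧ ∀ z ∈ O, z ∉ V → z = y := by
  by_cases hy : y ∈ V
  · exact ⟨V, hy, fun z hz hzV => absurd hz hzV⟩
  obtain ⟨O, hO, hO'⟩ := isOpen_induced_iff.1 (isOpen_discrete ({⟨y, hy⟩} : Set ((V : Set Y)ᶜ : Set Y)))
  refine ⟨⟨O, hO⟩, ?_, fun z hz hzV => ?_⟩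
  · have : (⟨y, hy⟩ : ((V : Set Y)ᶜ : Set Y)) ∈ Subtype.val ⁻¹' O := by rw [hO']; exact Set.mem_singleton _
    exact this
  · have : (⟨z, hzV⟩ : ((V : Set Y)ᶜ : Set Y)) ∈ Subtype.val ⁻¹' O := hz
    rw [hO'] at this
    exact congrArg Subtype.val (Set.mem_singleton_iff.1 this)

/-- Descent along finitely many finite morphisms jointly bijective on functions off a discrete closed set. -/
theorem exists_descend_finite {n : ℕ} {Z : Fin n → Scheme.{u}} (π : ∀ k, Z k ⟶ Y) [∀ k, IsFinite (π k)]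
    {L : ∀ k, (Z k).Modules} (hL : ∀ k, PicF.IsInvertible (L k)) (V : Y.Opens)
    (hdisc : DiscreteTopology ((V : Set Y)ᶜ : Set Y))
    (hbij : ∀ W ≤ V, Function.Bijective fun (g : Γ(Y, W)) k => (π k).app W g) :
    ∃ N : Y.Modules, PicF.IsInvertible N ∧ ∀ k, Nonempty ((Scheme.Modules.pullback (π k)).obj N ≅ L k) := by
  classical
  choose Wf hWf e he using fun k (y : Y) => NormX.exists_frame_preimage (hL k) (π k) y
  choose O hyO hO using exists_isolating V hdisc
  let U : Y → Y.Opens := fun y => (if y ∈ V then V else O y) ⊓ Finset.univ.inf (fun k => Wf k y)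
  have hle : ∀ k y, U y ≤ Wf k y := fun k y => inf_le_right.trans (Finset.inf_le (Finset.mem_univ k))
  refine exists_glue_of_joint_iso π (U := U) (fun y => ⟨y, ?_, ?_⟩)
    (e := fun k y => AModX.res (L k) ((π k).preimage_mono (hle k y)) (e k y))
    (fun k y => (he k y).res _) V (fun y y' hne z hz => ?_) hbij
  · split_ifs with h
    · exact h
    · exact hyO y
  · rw [SetLike.mem_coe, ← SetLike.mem_coe, Opens.coe_finset_inf]
    simp only [Finset.mem_univ, Set.mem_iInter, Finset.inf_set_eq_iInter, Function.comp_apply, SetLike.mem_coe]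
    exact fun k _ => hWf k y
  · by_contra hzV
    obtain ⟨⟨h1, -⟩, h2, -⟩ := hz
    split_ifs at h1 with hy
    · exact hzV h1
    split_ifs at h2 with hy'
    · exact hzV h2
    exact hne ((hO y z h1 hzV).symm.trans (hO y' z h2 hzV))

/-- Gluing along a closed cover of a reduced scheme with discrete overlaps. -/
theorem exists_glue_closed_cover (X : Scheme.{u}) [IsReduced X] (n : ℕ) (Z : Fin n → X.IdealSheafData)
    (hcov : ⋃ i, ((Z i).support : Set X) = Set.univ)
    (hdisc : ∀ i j, i ≠ j → DiscreteTopology ↥(((Z i).support : Set X) ∩ ((Z j).support : Set X)))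
    (L : ∀ i, (Z i).subscheme.Modules) (hL : ∀ i, PicF.IsInvertible (L i)) :
    ∃ M : X.Modules, PicF.IsInvertible M ∧
      ∀ i, Nonempty ((Scheme.Modules.pullback (Z i).subschemeι).obj M ≅ L i) := by
  classical
  let S : Fin n → Set X := fun i => ((Z i).support : Set X)
  have hScl : ∀ i, IsClosed (S i) := fun i => (Z i).support.isClosed
  let D : Set X := ⋃ i, ⋃ j ∈ ({j | i ≠ j} : Set (Fin n)), S i ∩ S j
  have hDcl : IsClosed D := isClosed_iUnion_of_finite fun i =>
    (Set.toFinite _).isClosed_biUnion fun j _ => (hScl i).inter (hScl j)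
  let V : X.Opens := ⟨Dᶜ, hDcl.isOpen_compl⟩
  have hD : DiscreteTopology ((V : Set X)ᶜ : Set X) := by
    have hVc : ((V : Set X)ᶜ : Set X) = D := compl_compl D
    rw [hVc]
    refine discreteTopology_iff_isOpen_singleton.mpr fun xx => ?_
    obtain ⟨x, hx⟩ := xx
    have key : ∀ i j, i ≠ j → ∃ O : Set X, IsOpen O ∧ x ∈ O ∧ ∀ z ∈ O, z ∈ S i ∩ S j → z = x := fun i j hij => by
      by_cases hxij : x ∈ S i ∩ S j
      · haveI := hdisc i j hij
        obtain ⟨O, hO, hO'⟩ := isOpen_induced_iff.1 (isOpen_discrete ({⟨x, hxij⟩} : Set ↥(S i ∩ S j)))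
        refine ⟨O, hO, ?_, fun z hz hzij => ?_⟩
        · have : (⟨x, hxij⟩ : ↥(S i ∩ S j)) ∈ Subtype.val ⁻¹' O := by rw [hO']; exact Set.mem_singleton _
          exact this
        · have : (⟨z, hzij⟩ : ↥(S i ∩ S j)) ∈ Subtype.val ⁻¹' O := hz
          rw [hO'] at this
          exact congrArg Subtype.val (Set.mem_singleton_iff.1 this)
      · exact ⟨(S i ∩ S j)ᶜ, ((hScl i).inter (hScl j)).isOpen_compl, hxij, fun z hz hzij => absurd hzij hz⟩
    choose O hO hxO hOx using key
    let P : Set X := ⋂ i, ⋂ j, ⋂ h : i ≠ j, O i j h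
    have hP : IsOpen P := isOpen_iInter_of_finite fun i => isOpen_iInter_of_finite fun j =>
      isOpen_iInter_of_finite fun h => hO i j h
    have hxP : x ∈ P := Set.mem_iInter.2 fun i => Set.mem_iInter.2 fun j => Set.mem_iInter.2 fun h => hxO i j h
    refine isOpen_induced_iff.2 ⟨P, hP, Set.ext fun ⟨z, hz⟩ => ?_⟩
    rw [Set.mem_preimage, Set.mem_singleton_iff, Subtype.mk.injEq]
    refine ⟨fun hzP => ?_, fun e => e ▸ hxP⟩
    obtain ⟨i, hz⟩ := Set.mem_iUnion.1 hz
    obtain ⟨j, hij, hzij⟩ := Set.mem_iUnion₂.1 hz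
    exact hOx i j hij z (Set.mem_iInter.1 (Set.mem_iInter.1 (Set.mem_iInter.1 hzP i) j) hij) hzij
  haveI : ∀ k, IsFinite (Z k).subschemeι := fun k => inferInstance
  refine exists_descend_finite (fun k => (Z k).subschemeι) hL V hD fun W hW => ?_
  let C : Fin n → X.Opens := fun k =>
    ⟨(⋃ j ∈ ({j | j ≠ k} : Set (Fin n)), S j)ᶜ,
      ((Set.toFinite _).isClosed_biUnion fun j _ => hScl j).isOpen_compl⟩
  have hC : ∀ k z, z ∈ C k → ∀ j, z ∈ S j → j = k := fun k z hz j hj => by
    by_contra hne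
    exact hz (Set.mem_iUnion₂.2 ⟨j, hne, hj⟩)
  have hmem : ∀ k z, z ∈ W → z ∈ S k → z ∈ C k := fun k z hz hk h => by
    obtain ⟨j, hne, hj⟩ := Set.mem_iUnion₂.1 h
    exact hW hz (Set.mem_iUnion.2 ⟨k, Set.mem_iUnion₂.2 ⟨j, (Ne.symm hne : k ≠ j), hk, hj⟩⟩)
  have hcovW : ∀ z ∈ W, ∃ k, z ∈ W ⊓ C k ∧ z ∈ S k := fun z hz => by
    obtain ⟨k, hk⟩ := Set.mem_iUnion.1 (hcov.symm ▸ Set.mem_univ z : z ∈ ⋃ i, ((Z i).support : Set X))
    exact ⟨k, ⟨hz, hmem k z hz hk⟩, hk⟩
  have hWk : ∀ k z, z ∈ W ⊓ C k → z ∈ S k := fun k z hz => by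
    obtain ⟨j, -, hj⟩ := hcovW z hz.1
    exact (hC k z hz.2 j hj) ▸ hj
  have hrange : ∀ k, Set.range (Z k).subschemeι = S k := fun k => (Z k).range_subschemeι
  have hiso : ∀ k, Function.Bijective ((Z k).subschemeι.app (W ⊓ C k)) := fun k => by
    haveI : IsClosedImmersion ((Z k).subschemeι ∣_ (W ⊓ C k)) :=
      IsZariskiLocalAtTarget.restrict (P := @IsClosedImmersion) inferInstance _
    haveI : Surjective ((Z k).subschemeι ∣_ (W ⊓ C k)) := ⟨fun z => by
      obtain ⟨x, hx⟩ : (z.1 : X) ∈ Set.range (Z k).subschemeι := by rw [hrange]; exact hWk k z.1 z.2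
      refine ⟨⟨x, show (Z k).subschemeι x ∈ W ⊓ C k by rw [hx]; exact z.2⟩, Subtype.ext ?_⟩
      rw [morphismRestrict_base]
      exact hx⟩
    haveI : IsReduced ((W ⊓ C k : X.Opens) : Scheme.{u}) := isReduced_of_isOpenImmersion (W ⊓ C k).ι
    haveI := isIso_of_isClosedImmersion_of_surjective ((Z k).subschemeι ∣_ (W ⊓ C k))
    exact app_bijective_of_isIso _
  have hpre : ∀ k, (Z k).subschemeι ⁻¹ᵁ W ≤ (Z k).subschemeι ⁻¹ᵁ (W ⊓ C k) := fun k x hx =>
    ⟨hx, hmem k _ hx (hrange k ▸ Set.mem_range_self x)⟩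
  have hinj : ∀ k (a b : Γ((Z k).subscheme, (Z k).subschemeι ⁻¹ᵁ W)),
      AModX.resR ((Z k).subschemeι.preimage_mono inf_le_left) a =
        AModX.resR ((Z k).subschemeι.preimage_mono (inf_le_left : W ⊓ C k ≤ W)) b → a = b := fun k a b h => by
    have h' := congrArg (AModX.resR (hpre k)) h
    rwa [AModX.resR_resR, AModX.resR_resR, AModX.resR_self, AModX.resR_self] at h'
  refine ⟨fun a b hab => ?_, fun c => ?_⟩
  · refine X.sheaf.eq_of_locally_eq' (fun k : ULift.{u} (Fin n) => W ⊓ C k.down) W (fun k => homOfLE inf_le_left)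
      (fun z hz => by
        obtain ⟨k, hk, -⟩ := hcovW z hz
        exact Opens.mem_iSup.2 ⟨⟨k⟩, hk⟩) a b fun k => ?_
    refine (hiso k.down).1 ?_
    show (Z k.down).subschemeι.app _ (AModX.resR inf_le_left a) = (Z k.down).subschemeι.app _ (AModX.resR inf_le_left b)
    rw [← app_resR, ← app_resR]
    exact congrArg _ (congrFun hab k.down)
  · choose g hg using fun k => (hiso k).2 (AModX.resR ((Z k).subschemeι.preimage_mono inf_le_left) (c k))
    obtain ⟨G, hG, -⟩ := TopCat.Sheaf.existsUnique_gluing' X.sheaf (fun k : ULift.{u} (Fin n) => W ⊓ C k.down) W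
      (fun k => homOfLE inf_le_left) (fun z hz => by
        obtain ⟨k, hk, -⟩ := hcovW z hz
        exact Opens.mem_iSup.2 ⟨⟨k⟩, hk⟩) (fun k => g k.down) (fun i j => by
        by_cases h : i = j
        · subst h; rfl
        have hbot : (W ⊓ C i.down) ⊓ (W ⊓ C j.down) = ⊥ := by
          refine Opens.ext (Set.eq_empty_of_forall_notMem fun z ⟨hi, hj⟩ => h ?_)
          obtain ⟨k, -, hk⟩ := hcovW z hi.1
          exact ULift.ext _ _ ((hC i.down z hi.2 k hk).symm.trans (hC j.down z hj.2 k hk))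
        haveI : Subsingleton Γ(X, (W ⊓ C i.down) ⊓ (W ⊓ C j.down)) := by
          rw [hbot]
          exact CommRingCat.subsingleton_of_isTerminal X.sheaf.isTerminalOfEmpty
        exact Subsingleton.elim (α := Γ(X, (W ⊓ C i.down) ⊓ (W ⊓ C j.down))) _ _)
    refine ⟨G, funext fun k => hinj k _ _ ?_⟩
    show AModX.resR _ ((Z k).subschemeι.app W G) = _
    rw [app_resR _ (inf_le_left : W ⊓ C k ≤ W), show AModX.resR inf_le_left G = g k from hG ⟨k⟩, hg]

/-- Descent along a finite morphism which is an isomorphism off a discrete closed set. -/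
theorem exists_descend_iso (f : X ⟶ Y) [IsFinite f] (V : Y.Opens) [IsIso (f ∣_ V)]
    (hdisc : DiscreteTopology ((V : Set Y)ᶜ : Set Y)) (L : X.Modules) (hL : PicF.IsInvertible L) :
    ∃ N : Y.Modules, PicF.IsInvertible N ∧ Nonempty ((Scheme.Modules.pullback f).obj N ≅ L) := by
  obtain ⟨N, hN, h⟩ := exists_descend_finite (n := 1) (fun _ => f) (L := fun _ => L) (fun _ => hL) V hdisc
    fun W hW => by
      haveI := isIso_restrict_of_le f hW
      have hb := app_bijective_of_isIso f (W := W)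
      exact ⟨fun a b h => hb.1 (congrFun h 0), fun c => ⟨(hb.2 (c 0)).choose, funext fun k => by
        rw [Subsingleton.elim k 0]; exact (hb.2 (c 0)).choose_spec⟩⟩
  exact ⟨N, hN, h 0⟩

end Groth.Agent.PicGlue
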