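import Groth.Agent.PicGlue.Punct

/-!
# Retrocompact opens in schemes with one-dimensional noetherian local rings have affine inclusions
-/

universe u

open CategoryTheory AlgebraicGeometry TopologicalSpace

set_option backward.isDefEq.respectTransparency false
set_option backward.isDefEq.respectTransparency.types false

namespace Groth.Agent.PicGlue

open Groth.Agent

variable {X : Scheme.{u}}

/-- A neighbourhood of `x` whose trace on `U` is a basic open. -/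
theorem exists_affine_trace (U : X.Opens) [QuasiCompact U.ι] {x : X}
    (hx : x ∉ U) [IsNoetherianRing (X.presheaf.stalk x)] (hdim : ringKrullDim (X.presheaf.stalk x) ≤ 1) :
    ∃ (W : X.Opens) (f : Γ(X, W)), IsAffineOpen W ∧ x ∈ W ∧ W ⊓ U = X.basicOpen f := by
  classical
  obtain ⟨_, ⟨W, hW, rfl⟩, hxW, -⟩ := X.isBasis_affineOpens.exists_subset_of_mem_open (Set.mem_univ x) isOpen_univ
  have hW' : IsAffineOpen W := hW
  obtain ⟨hfin, -⟩ := generalisations (x := x) hdim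
  let G := {z | z ⤳ x ∧ z ∈ U}
  have hGU : ∀ z ∈ G, z ∈ W ⊓ U := fun z ⟨hz, hzU⟩ => ⟨hz.mem_open W.isOpen hxW, hzU⟩
  replace hfin : G.Finite := hfin.subset fun z ⟨hz, hzU⟩ => ⟨hz, fun e => hx (e ▸ hzU)⟩
  have hcpt : IsCompact ((W ⊓ U : X.Opens) : Set X) := by
    have h1 := (U.ι.isCompact_preimage hW'.isCompact).image U.ι.continuous
    have h2 : U.ι '' (U.ι ⁻¹ᵁ W : Set U.toScheme) = ((W ⊓ U : X.Opens) : Set X) := by
      rw [← Scheme.Hom.coe_image, Scheme.Hom.image_preimage_eq_opensRange_inf, Scheme.Opens.opensRange_ι,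
        inf_comm]
    rwa [h2] at h1
  -- finitely many basic opens
  obtain ⟨s, hs⟩ : ∃ s : Finset Γ(X, W), W ⊓ U = ⨆ g ∈ s, X.basicOpen g := by
    choose g hg hzg using fun z : (W ⊓ U : X.Opens) =>
      hW'.exists_basicOpen_le (V := W ⊓ U) ⟨z.1, z.2⟩ z.2.1
    obtain ⟨T, hT⟩ := hcpt.elim_finite_subcover (fun z => (X.basicOpen (g z) : Set X))
      (fun z => (X.basicOpen (g z)).isOpen) (fun z hz => Set.mem_iUnion.2 ⟨⟨z, hz⟩, hzg _⟩)
    refine ⟨T.image g, le_antisymm (fun z hz => ?_) (iSup₂_le fun a ha => ?_)⟩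
    · obtain ⟨t, ht, hzt⟩ := Set.mem_iUnion₂.1 (hT hz)
      exact Opens.mem_iSup.2 ⟨g t, Opens.mem_iSup.2 ⟨Finset.mem_image_of_mem _ ht, hzt⟩⟩
    · obtain ⟨t, -, rfl⟩ := Finset.mem_image.1 ha
      exact hg t
  let I : Ideal Γ(X, W) := Ideal.span (s : Set Γ(X, W))
  obtain ⟨f, hfI, hf⟩ : ∃ f ∈ I, ∀ z ∈ G, z ∈ X.basicOpen f := by
    by_contra hne
    let F : Finset G := @Finset.univ G hfin.fintype
    rcases Set.eq_empty_or_nonempty G with hG | ⟨z₀, hz₀⟩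
    · exact hne ⟨0, I.zero_mem, fun z hz => by rw [hG] at hz; exact hz.elim⟩
    let pr : G → Ideal Γ(X, W) := fun z => (hW'.primeIdealOf ⟨z.1, (hGU z.1 z.2).1⟩).asIdeal
    have hsub : (I : Set Γ(X, W)) ⊆ ⋃ z ∈ (↑F : Set G), pr z := by
      intro a ha
      by_contra hc
      refine hne ⟨a, ha, fun z hz => ?_⟩
      rw [QCoh.mem_basicOpen_iff_notMem hW' (hGU z hz).1]
      exact fun h => hc (Set.mem_iUnion₂.2 ⟨⟨z, hz⟩, @Finset.mem_univ G hfin.fintype _, h⟩)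
    obtain ⟨z, -, hle⟩ := (Ideal.subset_union_prime ⟨z₀, hz₀⟩ ⟨z₀, hz₀⟩
      fun i _ _ _ => (hW'.primeIdealOf ⟨i.1, (hGU i.1 i.2).1⟩).isPrime).1 hsub
    have hz' := hGU z.1 z.2
    rw [hs] at hz'
    obtain ⟨a, ha⟩ := Opens.mem_iSup.1 hz'
    obtain ⟨has, hza⟩ := Opens.mem_iSup.1 ha
    exact (QCoh.mem_basicOpen_iff_notMem hW' (hGU z.1 z.2).1 a).1 hza (hle (Ideal.subset_span has))
  have hfU : X.basicOpen f ≤ W ⊓ U := fun z hz => by
    have hzW := X.basicOpen_le f hz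
    rw [QCoh.mem_basicOpen_iff_notMem hW' hzW] at hz
    rw [hs]
    by_contra hno
    refine hz (Ideal.span_le.2 (fun a ha => ?_) hfI)
    by_contra hza
    exact hno (Opens.mem_iSup.2 ⟨a, Opens.mem_iSup.2 ⟨ha,
      (QCoh.mem_basicOpen_iff_notMem hW' hzW a).2 hza⟩⟩)
  choose c hxc hc using fun g : s => exists_shrink hW' hxW g.1 (X.basicOpen f) fun z hz hzg => hf z ⟨hz, by
    have : z ∈ W ⊓ U := by rw [hs]; exact Opens.mem_iSup.2 ⟨g.1, Opens.mem_iSup.2 ⟨g.2, hzg⟩⟩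
    exact this.2⟩
  let d := ∏ g : s, c g
  have hxd : x ∈ X.basicOpen d := by
    rw [QCoh.mem_basicOpen_iff_notMem hW' hxW]
    intro h
    obtain ⟨g, -, hg⟩ := (Ideal.IsPrime.prod_mem_iff (hp := (hW'.primeIdealOf ⟨x, hxW⟩).isPrime)).1 h
    exact (QCoh.mem_basicOpen_iff_notMem hW' hxW _).1 (hxc g) hg
  refine ⟨X.basicOpen d, AModX.resR (X.basicOpen_le d) f, hW'.basicOpen d, hxd, ?_⟩
  rw [show AModX.resR (X.basicOpen_le d) f = X.presheaf.map (homOfLE (X.basicOpen_le d)).op f from rfl,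
    Scheme.basicOpen_res]
  refine le_antisymm (fun z ⟨hz, hzU⟩ => ⟨hz, ?_⟩) (fun z ⟨hz, hzf⟩ => ⟨hz, (hfU hzf).2⟩)
  have hzWU : z ∈ W ⊓ U := ⟨X.basicOpen_le d hz, hzU⟩
  rw [hs] at hzWU
  obtain ⟨a, ha⟩ := Opens.mem_iSup.1 hzWU
  obtain ⟨has, hza⟩ := Opens.mem_iSup.1 ha
  refine hc ⟨a, has⟩ ?_
  rw [Scheme.basicOpen_mul]
  refine ⟨?_, hza⟩
  have hzW := X.basicOpen_le d hz
  rw [SetLike.mem_coe, QCoh.mem_basicOpen_iff_notMem hW' hzW] at hz ⊢
  exact fun h => hz ((hW'.primeIdealOf ⟨z, hzW⟩).isPrime.prod_mem_iff.2 ⟨⟨a, has⟩, Finset.mem_univ _, h⟩)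

/-- Inclusions of retrocompact opens in dimension one are affine. -/
theorem isAffineHom_ι (U : X.Opens) [QuasiCompact U.ι]
    (hX : ∀ x : X, IsNoetherianRing (X.presheaf.stalk x) ∧ ringKrullDim (X.presheaf.stalk x) ≤ 1) :
    IsAffineHom U.ι := by
  refine isAffineHom_of_forall_exists_isAffineOpen _ fun x => ?_
  obtain ⟨W, hxW, hW, hWU⟩ : ∃ W : X.Opens, x ∈ W ∧ IsAffineOpen W ∧ IsAffineOpen (W ⊓ U) := by
    by_cases hx : x ∈ U
    · obtain ⟨_, ⟨W, hW, rfl⟩, hxW, hWU⟩ := X.isBasis_affineOpens.exists_subset_of_mem_open hx U.isOpen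
      exact ⟨W, hxW, hW, (inf_eq_left.2 (show W ≤ U from hWU)).symm ▸ hW⟩
    · haveI := (hX x).1
      obtain ⟨W, f, hW, hxW, hWU⟩ := exists_affine_trace U hx (hX x).2
      exact ⟨W, hxW, hW, hWU ▸ hW.basicOpen f⟩
  refine ⟨W, hxW, hW, (U.ι.isAffineOpen_iff_of_isOpenImmersion).1 ?_⟩
  rw [Scheme.Hom.image_preimage_eq_opensRange_inf, Scheme.Opens.opensRange_ι, inf_comm]
  exact hWU

end Groth.Agent.PicGlue
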