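import Groth.Agent.PicGlue.Glue
import Groth.Agent.PicGlue.Dim
import Groth.Agent.NormX.Cases

/-!
# Invertible modules descend along finite morphisms which are closed immersions over a dense open of a curve
-/

universe u

open CategoryTheory AlgebraicGeometry TopologicalSpace

set_option backward.isDefEq.respectTransparency false
set_option backward.isDefEq.respectTransparency.types false

namespace Groth.Agent.PicGlue

open Groth.Agent

variable {X Y : Scheme.{u}}

theorem app_surjective_of_restrict (f : X ⟶ Y) {A : Y.Opens} (hA : IsAffineOpen A)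
    [IsClosedImmersion (f ∣_ A)] : Function.Surjective (f.app A) := by
  haveI : IsAffine A.toScheme := hA
  have h := (f ∣_ A).app_surjective ⊤ (isAffineOpen_top _)
  rw [morphismRestrict_app] at h
  have h2 : Function.Surjective (f.app (A.ι ''ᵁ ⊤)) := by
    intro b
    obtain ⟨a, ha⟩ := h (X.presheaf.map (eqToHom (image_morphismRestrict_preimage f A ⊤)).op b)
    exact ⟨a, (ConcreteCategory.bijective_of_isIso
      (X.presheaf.map (eqToHom (image_morphismRestrict_preimage f A ⊤)).op)).1 ha⟩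
  rwa [Scheme.Opens.ι_image_top] at h2

theorem isClosedImmersion_restrict_of_le (f : X ⟶ Y) {A V : Y.Opens} (h : A ≤ V)
    [IsClosedImmersion (f ∣_ V)] : IsClosedImmersion (f ∣_ A) := by
  have h1 : IsClosedImmersion ((f ∣_ V) ∣_ (V.ι ⁻¹ᵁ A)) := IsZariskiLocalAtTarget.restrict (P := @IsClosedImmersion) inferInstance _
  have e := morphismRestrictRestrict f V (V.ι ⁻¹ᵁ A)
  rw [MorphismProperty.arrow_mk_iso_iff @IsClosedImmersion e] at h1
  have he : V.ι ''ᵁ (V.ι ⁻¹ᵁ A) = A := by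
    rw [Scheme.Hom.image_preimage_eq_opensRange_inf, Scheme.Opens.opensRange_ι]
    exact inf_eq_right.2 h
  rwa [he] at h1

/-- A unit on the preimage lifts near a generic point. -/
theorem exists_unit_lift (f : X ⟶ Y) [IsFinite f] {W V : Y.Opens} [IsClosedImmersion (f ∣_ V)] (hWV : W ≤ V)
    {η : Y} (hη : η ∈ W) (hgen : η ∈ genericPoints Y) {c : Γ(X, f ⁻¹ᵁ W)} (hc : IsUnit c) :
    ∃ (S : Y.Opens) (hS : S ≤ W) (a : Γ(Y, S)), η ∈ S ∧ IsUnit a ∧
      f.app S a = AModX.resR (f.preimage_mono hS) c := by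
  obtain ⟨_, ⟨A, hA, rfl⟩, hηA, hAW⟩ := Y.isBasis_affineOpens.exists_subset_of_mem_open hη W.isOpen
  have hAW' : A ≤ W := hAW
  by_cases hex : ∃ x : X, f x = η
  · obtain ⟨x, rfl⟩ := hex
    haveI := isClosedImmersion_restrict_of_le f (hAW'.trans hWV)
    obtain ⟨a, ha⟩ := app_surjective_of_restrict f hA (AModX.resR (f.preimage_mono hAW') c)
    have hxa : f x ∈ Y.basicOpen a := by
      show x ∈ f ⁻¹ᵁ Y.basicOpen a
      rw [Scheme.preimage_basicOpen, ha, X.basicOpen_of_isUnit (hc.map _)]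
      exact hηA
    refine ⟨Y.basicOpen a, (Y.basicOpen_le a).trans hAW', AModX.resR (Y.basicOpen_le a) a, hxa,
      AModX.isUnit_resR _ _ le_rfl, ?_⟩
    rw [← app_resR, ha, AModX.resR_resR]
  · let S : Y.Opens := A ⊓ ⟨(Set.range f)ᶜ, f.isClosedMap.isClosed_range.isOpen_compl⟩
    have hS : S ≤ W := inf_le_left.trans hAW'
    refine ⟨S, hS, 1, ⟨hηA, fun ⟨x, hx⟩ => hex ⟨x, hx⟩⟩, isUnit_one, ?_⟩
    haveI : Subsingleton Γ(X, f ⁻¹ᵁ S) := by
      rw [show f ⁻¹ᵁ S = ⊥ from Opens.ext (Set.eq_empty_of_forall_notMem fun x hx => hx.2 ⟨x, rfl⟩)]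
      exact CommRingCat.subsingleton_of_isTerminal X.sheaf.isTerminalOfEmpty
    exact Subsingleton.elim _ _

theorem subsingleton_bot {Z : Scheme.{u}} {U : Z.Opens} (h : U = ⊥) : Subsingleton Γ(Z, U) := by
  subst h
  exact CommRingCat.subsingleton_of_isTerminal Z.sheaf.isTerminalOfEmpty

theorem resR_app_disjoint {W W' : Y.Opens} (h : W ⊓ W' = ⊥) (a : Γ(Y, W)) (b : Γ(Y, W')) :
    AModX.resR (inf_le_left : W ⊓ W' ≤ W) a = AModX.resR (inf_le_right : W ⊓ W' ≤ W') b :=
  haveI := subsingleton_bot h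
  Subsingleton.elim _ _

/-- Descent of invertible modules along a finite morphism which is a closed immersion over a dense open. -/
theorem exists_descend (f : X ⟶ Y) [IsFinite f] [NoetherianSpace Y] (hdim : topologicalKrullDim Y ≤ 1)
    (V : Y.Opens) (hV : Dense (V : Set Y)) [IsClosedImmersion (f ∣_ V)] (L : X.Modules) (hL : PicF.IsInvertible L) :
    ∃ N : Y.Modules, PicF.IsInvertible N ∧ Nonempty ((Scheme.Modules.pullback f).obj N ≅ L) := by
  classical
  obtain ⟨O, hO, hdisj⟩ := exists_nhd_generic (Y := Y)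
  have hgenV := genericPoints_subset_of_dense hV
  choose Wf hWf eW heW using fun y : Y => NormX.exists_frame_preimage hL f y
  -- the central open
  let Q : genericPoints Y → Y.Opens := fun η => O η ⊓ V ⊓ Wf η
  have hQη : ∀ η : genericPoints Y, (η : Y) ∈ Q η := fun η => ⟨⟨hO η, hgenV η.2⟩, hWf η⟩
  have hQdisj : ∀ η η', η ≠ η' → Q η ⊓ Q η' = ⊥ := fun η η' hne =>
    eq_bot_iff.2 ((inf_le_inf (inf_le_left.trans inf_le_left) (inf_le_left.trans inf_le_left)).trans
      (hdisj η η' hne).le)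
  let V₀ : Y.Opens := ⨆ η, Q η
  have hQV₀ : ∀ η, Q η ≤ V₀ := fun η => le_iSup Q η
  have hgen₀ : genericPoints Y ⊆ (V₀ : Set Y) := fun η hη => hQV₀ ⟨η, hη⟩ (hQη ⟨η, hη⟩)
  obtain ⟨eV, heV, -⟩ := AModX.existsUnique_glue (M := L) (V := f ⁻¹ᵁ V₀) (fun η => f ⁻¹ᵁ Q η)
    (fun η => f.preimage_mono (hQV₀ η)) (fun x (hx : f x ∈ V₀) => by
      obtain ⟨η, hη⟩ := Opens.mem_iSup.1 hx
      exact ⟨η, hη⟩)
    (fun η => AModX.res L (f.preimage_mono inf_le_right) (eW η)) (fun η η' => by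
      by_cases h : η = η'
      · subst h; rfl
      refine AModX.eq_of_locally (M := L) _ _ fun p hp => ?_
      have : f p ∈ (⊥ : Y.Opens) := by rw [← hQdisj η η' h]; exact ⟨hp.1, hp.2⟩
      exact this.elim)
  have heVf : InvX.IsFrame eV :=
    InvUfdLib.isFrame_of_cover (fun η => f ⁻¹ᵁ Q η) (fun η => f.preimage_mono (hQV₀ η))
      (fun x (hx : f x ∈ V₀) => by
      obtain ⟨η, hη⟩ := Opens.mem_iSup.1 hx
      exact ⟨η, hη⟩) eV fun η => by
        rw [heV η]
        exact (heW _).res _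
  obtain ⟨hFfin, hFcl⟩ := finite_compl hdim V₀ hgen₀
  let F := {y : Y // y ∉ V₀}
  -- transition units near the missing points
  have hpunct : ∀ y : F, ∃ (W : Y.Opens) (hW : W ≤ Wf y.1) (u : (Γ(Y, W ⊓ V₀))ˣ) (_ : (y : Y) ∈ W),
      (∀ z ∈ W, z ∉ V₀ → z = (y : Y)) ∧
      AModX.res L (f.preimage_mono (inf_le_left.trans hW)) (eW y.1) =
        f.app (W ⊓ V₀) (u : Γ(Y, W ⊓ V₀)) • AModX.res L (f.preimage_mono (inf_le_right : W ⊓ V₀ ≤ V₀)) eV := by
    intro y
    let W₁ : Y.Opens := Wf y.1 ⊓ ⟨((V₀ : Set Y)ᶜ \ {(y : Y)})ᶜ, by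
      refine IsClosed.isOpen_compl (self := ?_)
      rw [← Set.biUnion_of_singleton ((V₀ : Set Y)ᶜ \ {(y : Y)})]
      exact (hFfin.diff).isClosed_biUnion fun z hz => hFcl z hz.1⟩
    have hyW₁ : (y : Y) ∈ W₁ := ⟨hWf y.1, fun h => h.2 rfl⟩
    have hW₁ : ∀ z ∈ W₁, z ∉ V₀ → z = (y : Y) := fun z hz hzV => by
      by_contra hne
      exact hz.2 ⟨hzV, hne⟩
    obtain ⟨c, hc⟩ := heVf.exists_coord (f.preimage_mono (inf_le_right : W₁ ⊓ V₀ ≤ V₀))
      (AModX.res L (f.preimage_mono (inf_le_left.trans inf_le_left)) (eW y.1))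
    have hcu : IsUnit c := by
      obtain ⟨c', hc'⟩ := (heW y.1).exists_coord
        (f.preimage_mono ((inf_le_left : W₁ ⊓ V₀ ≤ W₁).trans inf_le_left))
        (AModX.res L (f.preimage_mono (inf_le_right : W₁ ⊓ V₀ ≤ V₀)) eV)
      refine IsUnit.of_mul_eq_one c' (heVf.coord_unique (f.preimage_mono inf_le_right) ?_)
      rw [one_smul, mul_comm, mul_smul, ← hc, ← hc']
    -- lifts near the generic points
    have hlift : ∀ η : genericPoints Y, ∃ (S : Y.Opens) (a : Γ(Y, W₁ ⊓ V₀ ⊓ S)), (η : Y) ∈ S ∧ S ≤ Q η ∧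
        IsUnit a ∧ f.app _ a = AModX.resR (f.preimage_mono inf_le_left) c := by
      intro η
      by_cases hη : (η : Y) ∈ W₁
      · haveI : IsClosedImmersion (f ∣_ V) := inferInstance
        have hle : W₁ ⊓ V₀ ⊓ Q η ≤ V := inf_le_right.trans (inf_le_left.trans inf_le_right)
        obtain ⟨S, hS, a, hηS, hau, ha⟩ := exists_unit_lift (V := V) f hle
          (η := (η : Y)) ⟨⟨hη, hgen₀ η.2⟩, hQη η⟩ η.2
          (hcu.map (AModX.resR (f.preimage_mono (inf_le_left : W₁ ⊓ V₀ ⊓ Q η ≤ W₁ ⊓ V₀))))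
        refine ⟨S, AModX.resR inf_le_right a, hηS, hS.trans inf_le_right, hau.map _, ?_⟩
        rw [← app_resR, ha, AModX.resR_resR, AModX.resR_resR]
      · have hbot : W₁ ⊓ V₀ ⊓ Q η = ⊥ := by
          refine Opens.ext (Set.eq_empty_of_forall_notMem fun z ⟨⟨hz, hz0⟩, hzQ⟩ => hη ?_)
          obtain ⟨η', hη'⟩ := Opens.mem_iSup.1 hz0
          let C : genericPoints Y :=
            genericPoints.ofComponent ⟨_, irreducibleComponent_mem_irreducibleComponents z⟩
          have hCz : (C : Y) ⤳ z := by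
            refine (genericPoints.isGenericPoint C).specializes ?_
            rw [genericPoints.component_ofComponent]
            exact mem_irreducibleComponent
          have hC : C = η := by
            by_contra hne
            have h1 : (C : Y) ∈ (⊥ : Y.Opens) := by
              rw [← hdisj C η hne]
              exact ⟨hO C, hCz.mem_open (O η).isOpen hzQ.1.1⟩
            exact h1
          rw [← hC]
          exact hCz.mem_open W₁.isOpen hz
        haveI := subsingleton_bot hbot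
        refine ⟨Q η, 1, hQη η, le_rfl, isUnit_one, ?_⟩
        haveI := subsingleton_bot (Z := X) (U := f ⁻¹ᵁ (W₁ ⊓ V₀ ⊓ Q η)) (by rw [hbot]; rfl)
        exact Subsingleton.elim _ _
    choose S a hηS hSQ hau ha using hlift
    let OS : Y.Opens := ⨆ η, S η
    have hgenS : genericPoints Y ⊆ (OS : Set Y) := fun η hη => le_iSup S ⟨η, hη⟩ (hηS ⟨η, hη⟩)
    obtain ⟨hSfin, hScl⟩ := finite_compl hdim OS hgenS
    let W : Y.Opens := W₁ ⊓ ⟨((OS : Set Y)ᶜ \ {(y : Y)})ᶜ, by
      refine IsClosed.isOpen_compl (self := ?_)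
      rw [← Set.biUnion_of_singleton ((OS : Set Y)ᶜ \ {(y : Y)})]
      exact (hSfin.diff).isClosed_biUnion fun z hz => hScl z hz.1⟩
    have hWOS : W ⊓ V₀ ≤ OS := fun z ⟨hz, hz0⟩ => by
      by_contra hne
      exact hz.2 ⟨hne, fun e => y.2 (show (y : Y) ∈ V₀ from (Set.mem_singleton_iff.1 e) ▸ hz0)⟩
    let P : genericPoints Y → Y.Opens := fun η => W ⊓ V₀ ⊓ S η
    have hP : ∀ η, P η ≤ W₁ ⊓ V₀ ⊓ S η := fun η => inf_le_inf_right _ (inf_le_inf_right _ inf_le_left)
    have hcovP : ∀ z ∈ W ⊓ V₀, ∃ η, z ∈ P η := fun z hz => by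
      obtain ⟨η, hη⟩ := Opens.mem_iSup.1 (hWOS hz)
      exact ⟨η, hz, hη⟩
    have hagree : ∀ (w : ∀ η, Γ(Y, P η)) η η', AModX.resR (inf_le_left : P η ⊓ P η' ≤ P η) (w η) =
        AModX.resR (inf_le_right : P η ⊓ P η' ≤ P η') (w η') := fun w η η' => by
      by_cases h : η = η'
      · subst h; rfl
      exact resR_app_disjoint (eq_bot_iff.2 ((inf_le_inf (inf_le_right.trans (hSQ η))
        (inf_le_right.trans (hSQ η'))).trans (hQdisj η η' h).le)) _ _
    obtain ⟨uu, huu, -⟩ := TopCat.Sheaf.existsUnique_gluing' Y.sheaf P (W ⊓ V₀) (fun η => homOfLE inf_le_left)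
      (fun z hz => Opens.mem_iSup.2 (hcovP z hz)) (fun η => AModX.resR (hP η) (a η))
      (hagree fun η => AModX.resR (hP η) (a η))
    obtain ⟨vv, hvv, -⟩ := TopCat.Sheaf.existsUnique_gluing' Y.sheaf P (W ⊓ V₀) (fun η => homOfLE inf_le_left)
      (fun z hz => Opens.mem_iSup.2 (hcovP z hz)) (fun η => AModX.resR (hP η) ((hau η).unit⁻¹ : (Γ(Y, _))ˣ).1)
      (hagree fun η => AModX.resR (hP η) ((hau η).unit⁻¹ : (Γ(Y, _))ˣ).1)
    have huv : uu * vv = 1 := by
      refine Y.sheaf.eq_of_locally_eq' P (W ⊓ V₀) (fun η => homOfLE inf_le_left)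
        (fun z hz => Opens.mem_iSup.2 (hcovP z hz)) _ _ fun η => ?_
      show AModX.resR inf_le_left (uu * vv) = AModX.resR inf_le_left 1
      rw [map_mul, show AModX.resR inf_le_left uu = AModX.resR (hP η) (a η) from huu η,
        show AModX.resR inf_le_left vv = _ from hvv η, ← map_mul, IsUnit.mul_val_inv, map_one, map_one]
    refine ⟨W, inf_le_left.trans inf_le_left, ⟨uu, vv, huv, (mul_comm vv uu).trans huv⟩,
      ⟨hyW₁, fun h => h.2 rfl⟩, fun z hz => hW₁ z hz.1, ?_⟩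
    refine AModX.eq_of_locally (M := L) _ _ fun x hx => ?_
    obtain ⟨η, hη⟩ := hcovP (f x) hx
    refine ⟨f ⁻¹ᵁ P η, f.preimage_mono inf_le_left, hη, ?_⟩
    rw [AModX.res_res, AModX.res_smul, AModX.res_res, app_resR f (inf_le_left : P η ≤ W ⊓ V₀),
      show AModX.resR inf_le_left uu = AModX.resR (hP η) (a η) from huu η, ← app_resR, ha η, AModX.resR_resR]
    have h := congrArg (AModX.res L (f.preimage_mono ((hP η).trans inf_le_left))) hc
    rw [AModX.res_res, AModX.res_smul, AModX.res_res] at h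
    exact h
  choose W hW u hyW hWy hu using hpunct
  let P : Option F → Y.Opens := fun o => o.elim V₀ W
  have hPV : ∀ o o', o ≠ o' → P o ⊓ P o' ≤ V₀ := by
    intro o o' hne z hz
    rcases o with _ | y
    · exact hz.1
    rcases o' with _ | y'
    · exact hz.2
    by_contra hzV
    exact hne (congrArg some (Subtype.ext ((hWy y z hz.1 hzV).symm.trans (hWy y' z hz.2 hzV))))
  let cc : ∀ o, (Γ(Y, P o ⊓ V₀))ˣ := fun o => match o with
    | none => 1
    | some y => u y
  obtain ⟨t, ht1, ht2⟩ := exists_starCocycle P V₀ hPV cc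
  let ee : ∀ o, Γ(L, f ⁻¹ᵁ P o) := fun o => match o with
    | none => eV
    | some y => AModX.res L (f.preimage_mono (hW y)) (eW y.1)
  have hee : ∀ o, InvX.IsFrame (ee o) := fun o => by
    rcases o with _ | y
    · exact heVf
    · exact (heW y.1).res _
  have hcc : ∀ (o : Option F) (T : Y.Opens) (h : T ≤ P o) (h' : T ≤ V₀),
      AModX.res L (f.preimage_mono h) (ee o) =
        f.app T (AModX.resR (le_inf h h') (cc o : Γ(Y, P o ⊓ V₀))) • AModX.res L (f.preimage_mono h') eV := by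
    intro o T h h'
    rcases o with _ | y
    · show AModX.res L _ eV = f.app T (AModX.resR _ (1 : Γ(Y, V₀ ⊓ V₀))) • AModX.res L _ eV
      rw [map_one, map_one, one_smul]
    · show AModX.res L (f.preimage_mono (h : T ≤ W y)) (AModX.res L (f.preimage_mono (hW y)) (eW y.1)) = _
      have h1 := congrArg (AModX.res L (f.preimage_mono (le_inf h h' : T ≤ W y ⊓ V₀))) (hu y)
      rw [AModX.res_res, AModX.res_smul, AModX.res_res, app_resR f (le_inf h h' : T ≤ W y ⊓ V₀)] at h1
      exact (AModX.res_res _ _ _).trans h1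
  obtain ⟨N, hN, hiso⟩ := exists_glue (κ := PUnit.{1}) (fun _ => f) (L := fun _ => L) (U := P)
    (fun y => if h : y ∈ V₀ then ⟨none, h⟩ else ⟨some ⟨y, h⟩, hyW _⟩) (e := fun _ => ee) (fun _ => hee) t
    (fun _ o o' => by
      by_cases h : o = o'
      · subst h
        rw [ht1, map_one, one_smul]
      · rw [hcc o _ inf_le_left (hPV o o' h), hcc o' _ inf_le_right (hPV o o' h), ht2 o o' h, map_mul, mul_smul]
        congr 1
        rw [← mul_smul, ← map_mul, ← map_mul, Units.inv_mul, map_one, map_one, one_smul])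
  exact ⟨N, hN, hiso ⟨⟩⟩

end Groth.Agent.PicGlue
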