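import Groth.Agent.PicGlue.Poles
import Groth.Agent.PicGlue.Extend
import Groth.Agent.H23.SepAffine

/-!
# Sections with poles along the complement of an affine open in dimension one
-/

universe u

open CategoryTheory AlgebraicGeometry TopologicalSpace IsLocalRing

set_option linter.style.haveILetI false
set_option backward.isDefEq.respectTransparency false
set_option backward.isDefEq.respectTransparency.types false

namespace Groth.Agent.PicGlue

open Groth.Agent

variable {X : Scheme.{u}}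

/-- On a separated scheme the sections on an intersection of two affines are generated by those on both. -/
theorem closure_gens_eq_top [X.IsSeparated] {W U : X.Opens} (hW : IsAffineOpen W) (hU : IsAffineOpen U) :
    Subring.closure (H23.SepAffine.gens W U) = ⊤ := by
  let f : X ⟶ ⊤_ Scheme.{u} := Limits.terminal.from X
  haveI : IsSeparated f := Scheme.IsSeparated.isSeparated_terminal_from
  refine ((H23.SepAffine.isClosedImmersion_cmp_iff f hW hU).1 ?_).2
  haveI := H23.SepAffine.isImmersion_cmp f W U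
  refine .of_isPreimmersion _ ?_
  rw [H23.SepAffine.range_cmp]
  exact (Limits.pullback.diagonal f).isClosedEmbedding.isClosed_range.preimage
    (H23.SepAffine.incl f _ _).continuous

/-- The map from the sections on `D(h)` to the punctured local ring. -/
theorem exists_lift {W V : X.Opens} (hW : IsAffineOpen W) (h : Γ(X, W)) (hV : V ≤ W) (e : V = X.basicOpen h)
    {x : X} (hx : x ∈ W) {S : Type u} [CommRing S] (α : X.presheaf.stalk x →+* S)
    (hu : IsUnit (α (X.presheaf.germ W x hx h))) :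
    ∃ μ : Γ(X, V) →+* S, (∀ a, μ (AModX.resR hV a) = α (X.presheaf.germ W x hx a)) ∧
      ∀ ν : Γ(X, V) →+* S, (∀ a, ν (AModX.resR hV a) = α (X.presheaf.germ W x hx a)) → ν = μ := by
  letI : Algebra Γ(X, W) Γ(X, V) := (AModX.resR hV).toAlgebra
  haveI : IsLocalization.Away h Γ(X, V) := hW.isLocalization_of_eq_basicOpen h (homOfLE hV) e
  refine ⟨IsLocalization.Away.lift (g := α.comp (X.presheaf.germ W x hx).hom) h hu, fun a => ?_, fun ν hν => ?_⟩
  · exact IsLocalization.Away.lift_eq h hu a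
  · refine IsLocalization.ringHom_ext (Submonoid.powers h) (RingHom.ext fun a => ?_)
    exact (hν a).trans (IsLocalization.Away.lift_eq (g := α.comp (X.presheaf.germ W x hx).hom) h hu a).symm

/-- On a separated locally noetherian scheme, an affine open with finite discrete complement of points with
one-dimensional local rings has a function with poles at all the other points. -/
theorem exists_poles [IsNoetherian X] [X.IsSeparated] (U : X.Opens) (hU : IsAffineOpen U)
    (hfin : ((U : Set X)ᶜ).Finite) (hdisc : DiscreteTopology ↥((U : Set X)ᶜ))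
    (hloc : ∀ x : X, x ∉ U → ringKrullDim (X.presheaf.stalk x) ≤ 1) :
    ∃ f : Γ(X, U), ∀ x : {x : X // x ∉ U}, ∃ (W : X.Opens) (g : Γ(X, W)), x.1 ∈ W ∧
      (∀ z ∈ W, z ∉ U → z = x.1) ∧ W ⊓ U = X.basicOpen g ∧
      AModX.resR (inf_le_left : W ⊓ U ≤ W) g * AModX.resR (inf_le_right : W ⊓ U ≤ U) f = 1 := by
  classical
  haveI : QuasiCompact U.ι := inferInstance
  let F := {x : X // x ∉ U}
  haveI : Finite F := hfin.to_subtype
  have hp := fun x : F => exists_punctured U hdisc x.2 (hloc x.1 x.2)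
  choose W h hW hxW hWiso hWU using hp
  let α : ∀ x : F, X.presheaf.stalk x.1 →+* Localization.Away (X.presheaf.germ (W x) x.1 (hxW x) (h x)) :=
    fun x => algebraMap _ _
  have hu : ∀ x : F, IsUnit (α x (X.presheaf.germ (W x) x.1 (hxW x) (h x))) := fun x =>
    IsLocalization.Away.algebraMap_isUnit _
  choose μ hμ hμu using fun x : F =>
    exists_lift (hW x) (h x) (inf_le_left : W x ⊓ U ≤ W x) (hWU x) (hxW x) (α x) (hu x)
  have hm : ∀ x : F, X.presheaf.germ (W x) x.1 (hxW x) (h x) ∈ maximalIdeal (X.presheaf.stalk x.1) := fun x hh => by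
    have h1 : x.1 ∈ X.basicOpen (h x) := (X.mem_basicOpen _ _ (hxW x)).2 hh
    rw [← hWU x] at h1
    exact x.2 h1.2
  let ψ := fun x : F => (μ x).comp (AModX.resR (inf_le_right : W x ⊓ U ≤ U))
  have hgen : ∀ x : F, Subring.closure (Set.range (α x) ∪ Set.range (ψ x)) = ⊤ := by
    intro x
    have h1 : ∀ t, μ x t ∈ Subring.closure (Set.range (α x) ∪ Set.range (ψ x)) := by
      intro t
      have ht : t ∈ Subring.closure (H23.SepAffine.gens (W x) U) := by
        rw [closure_gens_eq_top (hW x) hU]; trivial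
      have hle : Subring.closure (H23.SepAffine.gens (W x) U) ≤
          (Subring.closure (Set.range (α x) ∪ Set.range (ψ x))).comap (μ x) := by
        refine Subring.closure_le.2 ?_
        rintro _ (⟨a, rfl⟩ | ⟨a, rfl⟩)
        · exact Subring.subset_closure (Or.inl ⟨_, (hμ x a).symm⟩)
        · exact Subring.subset_closure (Or.inr ⟨a, rfl⟩)
      exact hle ht
    obtain ⟨u, hu'⟩ := (AModX.isUnit_resR (inf_le_left : W x ⊓ U ≤ W x) (h x) (hWU x).le).exists_right_inv
    have h2 : α x (X.presheaf.germ (W x) x.1 (hxW x) (h x)) * μ x u = 1 := by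
      rw [← hμ x, ← map_mul, hu', map_one]
    refine eq_top_iff.2 fun s _ => ?_
    obtain ⟨n, r, hr⟩ := IsLocalization.Away.surj (X.presheaf.germ (W x) x.1 (hxW x) (h x)) s
    have hs : s = α x r * μ x u ^ n := by
      rw [show α x r = s * α x (X.presheaf.germ (W x) x.1 (hxW x) (h x)) ^ n from hr.symm, mul_assoc,
        ← mul_pow, h2, one_pow, mul_one]
    rw [hs]
    exact mul_mem (Subring.subset_closure (Or.inl ⟨r, rfl⟩)) (pow_mem (h1 u) n)
  have hv : ∀ x : F, _ := fun x : F => by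
    haveI : Ring.KrullDimLE 1 (X.presheaf.stalk x.1) := Ring.krullDimLE_iff.2 (hloc x.1 x.2)
    exact Poles.exists_valuations _ (hm x) (ψ x) (hgen x)
  choose ι hι G hG v harch hunb hfinal using hv
  haveI : Finite (Σ x : F, ι x) := inferInstance
  cases nonempty_fintype (Σ x : F, ι x)
  cases nonempty_fintype F
  obtain ⟨f, hf⟩ := Poles.exists_forall_one_lt (Finset.univ : Finset (Σ x : F, ι x))
    (G := fun p => G p.1 p.2) (fun p => v p.1 p.2) (fun p => harch p.1 p.2) (fun p _ => hunb p.1 p.2)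
  choose N hN γ hγ hγf using fun x : F => hfinal x f fun i => hf ⟨x, i⟩ (Finset.mem_univ _)
  let Nt := ∏ x : F, N x
  refine ⟨f ^ Nt, fun x => ?_⟩
  obtain ⟨k, hk⟩ : N x ∣ Nt := Finset.dvd_prod_of_mem N (Finset.mem_univ x)
  have hNt : 0 < Nt := Finset.prod_pos fun x _ => hN x
  have hkpos : 0 < k := Nat.pos_of_ne_zero fun e => by rw [e, mul_zero] at hk; omega
  have hγk : γ x ^ k ∈ maximalIdeal _ := Ideal.pow_mem_of_mem _ (hγ x) k hkpos
  obtain ⟨W₁, hxW₁, g₀, hg₀⟩ := X.presheaf.exists_germ_eq (γ x ^ k)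
  obtain ⟨c, hc, hxc⟩ := (hW x).exists_basicOpen_le (V := W₁ ⊓ W x) ⟨x.1, ⟨hxW₁, hxW x⟩⟩ (hxW x)
  let W₂ := X.basicOpen c
  have hW₂ : W₂ ≤ W x := X.basicOpen_le c
  let g := AModX.resR (hc.trans inf_le_left : W₂ ≤ W₁) g₀
  have hg : X.presheaf.germ W₂ x.1 hxc g = γ x ^ k := by
    rw [← hg₀]
    exact X.presheaf.germ_res_apply _ _ hxc _
  have hW₂U : W₂ ⊓ U = X.basicOpen (AModX.resR hW₂ (h x)) := by
    rw [show AModX.resR hW₂ (h x) = X.presheaf.map (homOfLE hW₂).op (h x) from rfl, Scheme.basicOpen_res,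
      ← hWU x, ← inf_assoc, inf_eq_left.2 hW₂]
  have hgerm : ∀ a, X.presheaf.germ W₂ x.1 hxc (AModX.resR hW₂ a) = X.presheaf.germ (W x) x.1 (hxW x) a :=
    fun a => X.presheaf.germ_res_apply _ _ hxc a
  obtain ⟨μ₂, hμ₂, -⟩ := exists_lift ((hW x).basicOpen c) (AModX.resR hW₂ (h x)) (inf_le_left : W₂ ⊓ U ≤ W₂)
    hW₂U hxc (α x) (by rw [hgerm]; exact hu x)
  have hcomp : μ₂.comp (AModX.resR (inf_le_inf_right U hW₂ : W₂ ⊓ U ≤ W x ⊓ U)) = μ x := hμu x _ fun a => by
    rw [RingHom.comp_apply, AModX.resR_resR]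
    rw [← hgerm a, ← hμ₂, AModX.resR_resR]
  let δ := AModX.resR (inf_le_left : W₂ ⊓ U ≤ W₂) g * AModX.resR (inf_le_right : W₂ ⊓ U ≤ U) (f ^ Nt) - 1
  have hμδ : μ₂ δ = 0 := by
    simp only [δ]
    rw [map_sub, map_mul, map_one, hμ₂, hg,
      ← AModX.resR_resR (inf_le_right : W x ⊓ U ≤ U) (inf_le_inf_right U hW₂), ← RingHom.comp_apply μ₂, hcomp]
    show α x (γ x ^ k) * ψ x (f ^ Nt) - 1 = 0
    rw [map_pow, map_pow, hk, pow_mul, ← mul_pow, hγf x, one_pow, sub_self]
  letI : Algebra Γ(X, W₂) Γ(X, W₂ ⊓ U) := (AModX.resR inf_le_left).toAlgebra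
  haveI : IsLocalization.Away (AModX.resR hW₂ (h x)) Γ(X, W₂ ⊓ U) :=
    ((hW x).basicOpen c).isLocalization_of_eq_basicOpen _ (homOfLE inf_le_left) hW₂U
  obtain ⟨e, d, hd⟩ := IsLocalization.Away.surj (AModX.resR hW₂ (h x)) δ
  have hd' : δ * AModX.resR (inf_le_left : W₂ ⊓ U ≤ W₂) (AModX.resR hW₂ (h x)) ^ e =
      AModX.resR (inf_le_left : W₂ ⊓ U ≤ W₂) d := hd
  have hd0 : α x (X.presheaf.germ W₂ x.1 hxc d) = 0 := by
    rw [← hμ₂, ← hd', map_mul, hμδ, zero_mul]
  obtain ⟨⟨_, j, rfl⟩, hj⟩ := (IsLocalization.map_eq_zero_iff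
    (Submonoid.powers (X.presheaf.germ (W x) x.1 (hxW x) (h x))) _ _).1 hd0
  have hj' : X.presheaf.germ W₂ x.1 hxc (AModX.resR hW₂ (h x) ^ j * d) = X.presheaf.germ W₂ x.1 hxc 0 := by
    rw [map_zero, map_mul, map_pow, hgerm]
    exact hj
  obtain ⟨W₃, hxW₃, i₁, i₂, heq⟩ := X.presheaf.germ_eq x.1 hxc hxc _ _ hj'
  have h3 : W₃ ≤ W₂ := i₁.le
  have h0 : AModX.resR h3 (AModX.resR hW₂ (h x) ^ j * d) = 0 := heq.trans (map_zero _)
  have hmain : AModX.resR (inf_le_left : W₃ ⊓ U ≤ W₃) (AModX.resR h3 g) *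
      AModX.resR (inf_le_right : W₃ ⊓ U ≤ U) (f ^ Nt) = 1 := by
    have hle : W₃ ⊓ U ≤ W₂ ⊓ U := inf_le_inf_right U h3
    have h4 := congrArg (AModX.resR (inf_le_left : W₃ ⊓ U ≤ W₃)) h0
    rw [map_zero, AModX.resR_resR, ← AModX.resR_resR (inf_le_left : W₂ ⊓ U ≤ W₂) hle, map_mul, map_pow, ← hd',
      ← mul_assoc, mul_comm (_ ^ j) δ, mul_assoc, ← pow_add, map_mul, map_pow] at h4
    have hun : IsUnit (AModX.resR hle (AModX.resR (inf_le_left : W₂ ⊓ U ≤ W₂) (AModX.resR hW₂ (h x))) ^ (j + e)) :=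
      ((AModX.isUnit_resR _ _ hW₂U.le).map _).pow _
    have h5 := hun.mul_left_eq_zero.1 h4
    simp only [δ] at h5
    rw [map_sub, map_mul, map_one, sub_eq_zero, AModX.resR_resR, AModX.resR_resR] at h5
    simp only [g, AModX.resR_resR] at h5 ⊢
    convert h5 using 3
    exact AModX.resR_resR _ _ _
  refine ⟨W₃, AModX.resR h3 g, hxW₃, fun z hz hzU => hWiso x z (hW₂ (h3 hz)) hzU, ?_, hmain⟩
  refine le_antisymm (fun z hz => ?_) fun z hz => ⟨X.basicOpen_le _ hz, ?_⟩
  · rw [Scheme.mem_basicOpen _ _ z hz.1, ← X.presheaf.germ_res_apply (homOfLE (inf_le_left : W₃ ⊓ U ≤ W₃)) z hz]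
    exact (IsUnit.of_mul_eq_one _ hmain).map _
  · by_contra hzU
    have hzW₃ := X.basicOpen_le _ hz
    obtain rfl := hWiso x z (hW₂ (h3 hzW₃)) hzU
    rw [Scheme.mem_basicOpen _ _ _ hzW₃,
      show X.presheaf.germ W₃ x.1 hzW₃ (AModX.resR h3 g) = γ x ^ k from
        (X.presheaf.germ_res_apply _ _ hzW₃ g).trans hg] at hz
    exact (mem_maximalIdeal _).1 hγk hz

/-- An invertible module with a section vanishing exactly outside an affine `U` and one nonvanishing there. -/
theorem exists_two_sections [IsNoetherian X] [X.IsSeparated] (U : X.Opens) (hU : IsAffineOpen U)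
    (hfin : ((U : Set X)ᶜ).Finite) (hdisc : DiscreteTopology ↥((U : Set X)ᶜ))
    (hloc : ∀ x : X, x ∉ U → ringKrullDim (X.presheaf.stalk x) ≤ 1) :
    ∃ (L : X.Modules) (s t : Γ(L, (⊤ : X.Opens))), PicF.IsInvertible L ∧ AmpleX.locus s = U ∧
      ∀ y, y ∈ U ∨ y ∈ AmpleX.locus t := by
  classical
  obtain ⟨f, hp⟩ := exists_poles U hU hfin hdisc hloc
  choose W g hxW hWiso hWU hgf using hp
  let F := {x : X // x ∉ U}
  let P : Option F → X.Opens := fun o => o.elim U W
  have hPU : ∀ i j, i ≠ j → P i ⊓ P j ≤ U := by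
    intro i j hne z hz
    rcases i with _ | x
    · exact hz.1
    rcases j with _ | x'
    · exact hz.2
    by_contra hzU
    exact hne (congrArg some (Subtype.ext ((hWiso x z hz.1 hzU).symm.trans (hWiso x' z hz.2 hzU))))
  let b : ∀ o, Γ(X, P o) := fun o => match o with
    | none => 1
    | some x => g x
  let c : ∀ o, Γ(X, P o) := fun o => match o with
    | none => f
    | some _ => 1
  have hb : ∀ o, P o ⊓ U = X.basicOpen (b o) := fun o => by
    rcases o with _ | x
    · show U ⊓ U = X.basicOpen (1 : Γ(X, U))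
      rw [inf_idem, X.basicOpen_of_isUnit isUnit_one]
    · exact hWU x
  have hcb : ∀ o, AModX.resR (inf_le_left : P o ⊓ U ≤ P o) (c o) =
      AModX.resR (inf_le_left : P o ⊓ U ≤ P o) (b o) * AModX.resR (inf_le_right : P o ⊓ U ≤ U) f := fun o => by
    rcases o with _ | x
    · show AModX.resR _ f = AModX.resR _ (1 : Γ(X, U)) * AModX.resR _ f
      rw [map_one, one_mul]
    · show AModX.resR _ (1 : Γ(X, W x)) = AModX.resR _ (g x) * AModX.resR _ f
      rw [map_one]
      exact (hgf x).symm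
  have hbu : ∀ o, IsUnit (AModX.resR (inf_le_left : P o ⊓ U ≤ P o) (b o)) := fun o =>
    AModX.isUnit_resR _ _ (hb o).le
  obtain ⟨t, ht1, ht2⟩ := exists_starCocycle P U hPU fun o => (hbu o).unit⁻¹
  let M := H23.CocycleMod.mod t
  have hcov : ∀ y : X, ∃ o, y ∈ P o := fun y =>
    if h : y ∈ U then ⟨none, h⟩ else ⟨some ⟨y, h⟩, hxW ⟨y, h⟩⟩
  have key : ∀ i j, (hij : i ≠ j) →
      AModX.resR (inf_le_left : P i ⊓ P j ≤ P i) (b i) * (t.g i j : Γ(X, P i ⊓ P j)) =
        AModX.resR (inf_le_right : P i ⊓ P j ≤ P j) (b j) := by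
    intro i j hij
    have hU' := hPU i j hij
    rw [ht2 i j hij, inv_inv, ← mul_assoc,
      ← AModX.resR_resR (inf_le_left : P i ⊓ U ≤ P i) (le_inf inf_le_left hU') (b i), ← map_mul,
      IsUnit.mul_val_inv, map_one, one_mul, IsUnit.unit_spec, AModX.resR_resR]
  obtain ⟨s, hs, -⟩ := AModX.existsUnique_glue (M := M) (V := (⊤ : X.Opens)) P (fun _ => le_top)
    (fun y _ => hcov y) (fun o => b o • H23.CocycleMod.frame t o) (fun i j => by
      by_cases hij : i = j
      · subst hij; rfl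
      rw [AModX.res_smul, AModX.res_smul, H23.CocycleMod.res_frame, ← mul_smul, key i j hij])
  obtain ⟨s', hs', -⟩ := AModX.existsUnique_glue (M := M) (V := (⊤ : X.Opens)) P (fun _ => le_top)
    (fun y _ => hcov y) (fun o => c o • H23.CocycleMod.frame t o) (fun i j => by
      by_cases hij : i = j
      · subst hij; rfl
      have hU' := hPU i j hij
      rw [AModX.res_smul, AModX.res_smul, H23.CocycleMod.res_frame, ← mul_smul]
      congr 1
      rw [← AModX.resR_resR (inf_le_left : P i ⊓ U ≤ P i) (le_inf inf_le_left hU') (c i), hcb i,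
        ← AModX.resR_resR (inf_le_left : P j ⊓ U ≤ P j) (le_inf inf_le_right hU') (c j), hcb j, map_mul, map_mul,
        AModX.resR_resR, AModX.resR_resR, AModX.resR_resR, AModX.resR_resR, mul_right_comm, key i j hij])
  refine ⟨M, s, s', H23.CocycleMod.isInvertible t (eq_top_iff.2 fun y _ => Opens.mem_iSup.2 (hcov y)), ?_,
    fun y => ?_⟩
  · refine Opens.ext (Set.ext fun y => ?_)
    obtain ⟨o, ho⟩ := hcov y
    have h := AmpleX.locus_inf s le_top (H23.CocycleMod.isFrame_frame t o) (hs o)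
    rw [← hb o] at h
    have h2 := congrArg (fun O : X.Opens => y ∈ O) h
    simp only [Opens.mem_inf, ho, and_true, true_and, eq_iff_iff] at h2
    exact h2
  · by_cases hy : y ∈ U
    · exact Or.inl hy
    refine Or.inr ?_
    have h := AmpleX.locus_inf s' le_top (H23.CocycleMod.isFrame_frame t (some ⟨y, hy⟩)) (hs' (some ⟨y, hy⟩))
    rw [show c (some ⟨y, hy⟩) = 1 from rfl, X.basicOpen_of_isUnit isUnit_one] at h
    exact (h.ge (hxW ⟨y, hy⟩)).1

end Groth.Agent.PicGlue
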