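import Groth.Agent.KrullAki.Valuation
import Mathlib.RingTheory.Localization.Away.Basic
import Mathlib.RingTheory.Localization.Integer
import Mathlib.RingTheory.Nilpotent.Lemmas
import Mathlib.Algebra.Polynomial.Lifts
import Mathlib.RingTheory.HopkinsLevitzki
import Mathlib.RingTheory.Valuation.ValuationSubring

/-!
# Functions with poles at all points over a one-dimensional local ring
-/

universe u v

set_option linter.style.haveILetI false

open Polynomial IsLocalRing

namespace Groth.Agent.PicGlue.Poles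

open Groth.Agent.KrullAki

/-- Combine finitely many unbounded archimedean valuations. -/
theorem exists_forall_one_lt {A : Type*} [CommRing A] {ι : Type*} (s : Finset ι) {G : ι → Type v}
    [∀ i, LinearOrderedCommGroupWithZero (G i)] (v : ∀ i, Valuation A (G i))
    (harch : ∀ i, ∀ f a : A, 1 < v i f → ∃ M, ∀ n, M ≤ n → v i a < v i f ^ n)
    (hunb : ∀ i ∈ s, ∃ a, 1 < v i a) : ∃ f, ∀ i ∈ s, 1 < v i f := by
  classical
  induction s using Finset.induction with
  | empty => exact ⟨0, by simp⟩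
  | insert j s hj ih =>
    obtain ⟨f, hf⟩ := ih fun i hi => hunb i (Finset.mem_insert_of_mem hi)
    by_cases hjf : 1 < v j f
    · exact ⟨f, by simp [hjf, hf]; exact hf⟩
    obtain ⟨a, ha⟩ := hunb j (Finset.mem_insert_self j s)
    have hM : ∀ i : s, ∃ M, ∀ n, M ≤ n → v i.1 a < v i.1 f ^ n := fun i => harch i.1 f a (hf i.1 i.2)
    choose M hM using hM
    let n := s.attach.sup M + 1
    refine ⟨f ^ n + a, fun i hi => ?_⟩
    rcases Finset.mem_insert.1 hi with rfl | hi
    · have h1 : v i (f ^ n) < v i a := by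
        rw [map_pow]
        exact lt_of_le_of_lt (pow_le_one' (not_lt.1 hjf) n) ha
      rw [Valuation.map_add_eq_of_lt_right _ h1]
      exact ha
    · have h1 : v i a < v i (f ^ n) := by
        rw [map_pow]
        exact hM ⟨i, hi⟩ n ((Finset.le_sup (f := M) (Finset.mem_attach s ⟨i, hi⟩)).trans (Nat.le_succ _))
      rw [Valuation.map_add_eq_of_lt_left _ h1, map_pow]
      exact one_lt_pow₀ (hf i hi) (Nat.succ_ne_zero _)

/-- A rank one valuation is archimedean. -/
theorem exists_pow_lt {K : Type*} [Field K] (V : ValuationSubring K) [Ring.KrullDimLE 1 V] {t c : K}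
    (ht : V.valuation t < 1) (hc : c ≠ 0) : ∃ M, ∀ n, M ≤ n → V.valuation t ^ n < V.valuation c := by
  have hc0 : 0 < V.valuation c := zero_lt_iff.2 ((V.valuation.ne_zero_iff).2 hc)
  obtain ⟨k, hk⟩ : ∃ k, V.valuation t ^ k ≤ V.valuation c := by
    by_cases hc1 : c ∈ V
    · have htV : t ∈ V := (V.valuation_le_one_iff t).1 ht.le
      have hJ : (⟨t, htV⟩ : V) ∈ (⊥ : Ideal V).jacobson := by
        rw [IsLocalRing.jacobson_eq_maximalIdeal ⊥ bot_ne_top]
        exact (V.valuation_lt_one_iff _).2 ht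
      obtain ⟨k, d, hd⟩ := exists_dvd_pow_of_mem_jacobson hJ (c := (⟨c, hc1⟩ : V))
        fun h => hc (congrArg Subtype.val h)
      refine ⟨k, ?_⟩
      have hd' : t ^ k = c * (d : K) := congrArg Subtype.val hd
      rw [← map_pow, hd', map_mul]
      exact mul_le_of_le_one_right' (V.valuation_le_one d)
    · refine ⟨0, ?_⟩
      rw [pow_zero]
      exact le_of_lt (lt_of_not_ge fun h => hc1 ((V.valuation_le_one_iff c).1 h))
  refine ⟨k + 1, fun n hn => ?_⟩
  have h1 : V.valuation t ^ n ≤ V.valuation t ^ (k + 1) := pow_le_pow_right_of_le_one' ht.le hn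
  refine h1.trans_lt ?_
  rw [pow_succ]
  rcases eq_or_ne (V.valuation t) 0 with h0 | h0
  · rw [h0, mul_zero]; exact hc0
  calc V.valuation t ^ k * V.valuation t < V.valuation t ^ k * 1 :=
        mul_lt_mul_of_pos_left ht (zero_lt_iff.2 (pow_ne_zero _ h0))
    _ ≤ V.valuation c := by rwa [mul_one]

/-- An element of a commutative algebra which is integral modulo every prime is integral. -/
theorem isIntegralElem_of_forall_prime {R S : Type*} [CommRing R] [CommRing S] (φ : R →+* S) [Finite (PrimeSpectrum S)]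
    (w : S) (h : ∀ P : PrimeSpectrum S, ∃ p : R[X], p.Monic ∧ p.eval₂ φ w ∈ P.asIdeal) : φ.IsIntegralElem w := by
  choose p hmon hp using h
  cases nonempty_fintype (PrimeSpectrum S)
  have hnil : IsNilpotent ((∏ P, p P).eval₂ φ w) := nilpotent_iff_mem_prime.2 fun J hJ => by
    rw [eval₂_finsetProd]
    exact Ideal.IsPrime.prod_mem_iff.2 ⟨⟨J, hJ⟩, Finset.mem_univ _, hp ⟨J, hJ⟩⟩
  obtain ⟨k, hk⟩ := hnil
  exact ⟨(∏ P, p P) ^ k, (monic_prod_of_monic _ _ fun P _ => hmon P).pow k, by rw [eval₂_pow, hk]⟩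

variable {A R S : Type u} [CommRing A] [CommRing R] [CommRing S] [IsNoetherianRing R] [IsLocalRing R]
  [Ring.KrullDimLE 1 R] [Algebra R S]

/-- Over a punctured one-dimensional local ring there are finitely many valuations on `A` such that every `f`
with poles at all of them has a power whose inverse is in the maximal ideal. -/
theorem exists_valuations (h : R) (hm : h ∈ maximalIdeal R) [IsLocalization.Away h S]
    (ψ : A →+* S)
    (hgen : Subring.closure (Set.range (algebraMap R S) ∪ Set.range ψ) = ⊤) :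
    ∃ (ι : Type u) (_ : Finite ι) (G : ι → Type u) (_ : ∀ i, LinearOrderedCommGroupWithZero (G i))
      (v : ∀ i, Valuation A (G i)), (∀ i, ∀ f a : A, 1 < v i f → ∃ M, ∀ n, M ≤ n → v i a < v i f ^ n) ∧
      (∀ i, ∃ a, 1 < v i a) ∧
      ∀ f, (∀ i, 1 < v i f) → ∃ N, 0 < N ∧ ∃ γ ∈ maximalIdeal R, algebraMap R S γ * ψ f ^ N = 1 := by
  classical
  haveI : IsNoetherianRing S := IsLocalization.isNoetherianRing (Submonoid.powers h) S inferInstance
  haveI : Ring.KrullDimLE 0 S := by
    refine Ring.KrullDimLE.mk₀ fun P hP => ?_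
    obtain ⟨m, hm', hPm⟩ := P.exists_le_maximal hP.ne_top
    by_contra hne
    have hlt : P < m := lt_of_le_of_ne hPm fun e => hne (e ▸ hm')
    have h1 := ((IsLocalization.orderIsoOfPrime (Submonoid.powers h) S) ⟨P, hP⟩).2
    have h2 := ((IsLocalization.orderIsoOfPrime (Submonoid.powers h) S) ⟨m, hm'.isPrime⟩).2
    have hlt' : ((IsLocalization.orderIsoOfPrime (Submonoid.powers h) S) ⟨P, hP⟩).1 <
        ((IsLocalization.orderIsoOfPrime (Submonoid.powers h) S) ⟨m, hm'.isPrime⟩).1 :=
      (IsLocalization.orderIsoOfPrime (Submonoid.powers h) S).strictMono hlt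
    rcases Ring.krullDimLE_one_iff.1 ‹Ring.KrullDimLE 1 R› _ h2.1 with hmin | hmax
    · exact hlt'.not_ge (hmin.2 ⟨h1.1, bot_le⟩ hlt'.le)
    · exact Set.disjoint_left.1 h2.2 (Submonoid.mem_powers h)
        (by rw [IsLocalRing.eq_maximalIdeal hmax]; exact hm)
  haveI : IsArtinianRing S := isArtinianRing_iff_isNoetherianRing_krullDimLE_zero.2 ⟨inferInstance, inferInstance⟩
  haveI : Finite (PrimeSpectrum S) := inferInstance
  let K : PrimeSpectrum S → Type u := fun P => FractionRing (S ⧸ P.asIdeal)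
  let π : ∀ P, S →+* K P := fun P => (algebraMap (S ⧸ P.asIdeal) (K P)).comp (Ideal.Quotient.mk P.asIdeal)
  let φ : ∀ P, R →+* K P := fun P => (π P).comp (algebraMap R S)
  let B : ∀ P, Subring (K P) := fun P => (φ P).range
  have hπ : ∀ P x, π P x = 0 ↔ x ∈ P.asIdeal := fun P x => by
    rw [← Ideal.Quotient.eq_zero_iff_mem]
    exact (map_eq_zero_iff _ (IsFractionRing.injective (S ⧸ P.asIdeal) (K P)))
  have hh0 : ∀ P, φ P h ≠ 0 := fun P e => P.2.ne_top
    (Ideal.eq_top_of_isUnit_mem _ ((hπ P _).1 e) (IsLocalization.Away.algebraMap_isUnit h))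
  haveI hBf : ∀ P, IsFractionRing (B P) (K P) := fun P => by
    refine IsFractionRing.of_field _ _ fun z => ?_
    obtain ⟨a, b, hb, rfl⟩ := IsFractionRing.div_surjective (A := S ⧸ P.asIdeal) z
    obtain ⟨a, rfl⟩ := Ideal.Quotient.mk_surjective a
    obtain ⟨b, rfl⟩ := Ideal.Quotient.mk_surjective b
    obtain ⟨n, r, hr⟩ := IsLocalization.Away.surj h a
    obtain ⟨m, s, hs⟩ := IsLocalization.Away.surj h b
    refine ⟨⟨φ P (r * h ^ m), ⟨_, rfl⟩⟩, ⟨φ P (s * h ^ n), ⟨_, rfl⟩⟩, ?_⟩
    show π P a / π P b = φ P (r * h ^ m) / φ P (s * h ^ n)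
    have hr' : φ P r = π P a * φ P h ^ n := by
      show π P (algebraMap R S r) = _
      rw [← hr, map_mul, map_pow]
      rfl
    have hs' : φ P s = π P b * φ P h ^ m := by
      show π P (algebraMap R S s) = _
      rw [← hs, map_mul, map_pow]
      rfl
    rw [map_mul, map_mul, map_pow, map_pow, hr', hs', mul_assoc, mul_assoc,
      mul_comm (φ P h ^ n), mul_div_mul_right _ _ (mul_ne_zero (pow_ne_zero _ (hh0 P)) (pow_ne_zero _ (hh0 P)))]
  haveI hBd : ∀ P, Ring.KrullDimLE 1 (B P) := fun P => Ring.krullDimLE_iff.2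
    ((ringKrullDim_le_of_surjective _ (φ P).rangeRestrict_surjective).trans (Ring.krullDimLE_iff.1 ‹_›))
  haveI hBl : ∀ P, IsLocalRing (B P) := fun P =>
    IsLocalRing.of_surjective' _ (φ P).rangeRestrict_surjective
  have hunit : ∀ r : R, IsUnit (1 - h * r) := fun r => by
    by_contra hu
    refine (maximalIdeal.isMaximal R).ne_top ((Ideal.eq_top_iff_one _).2 ?_)
    have : (1 - h * r) + h * r ∈ maximalIdeal R :=
      Ideal.add_mem _ ((mem_maximalIdeal _).2 hu) (Ideal.mul_mem_right _ _ hm)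
    rwa [sub_add_cancel] at this
  have hBtop : ∀ P, B P ≠ ⊤ := fun P e => by
    obtain ⟨r, hr⟩ : (φ P h)⁻¹ ∈ B P := e ▸ Subring.mem_top _
    have h1 : φ P (1 - h * r) = 0 := by
      rw [map_sub, map_one, map_mul, hr, mul_inv_cancel₀ (hh0 P), sub_self]
    exact not_isUnit_zero (h1 ▸ (hunit r).map (φ P))
  have hhV : ∀ P (V : ValuationSubring (K P)), B P ≤ V.toSubring → V ≠ ⊤ → V.valuation (φ P h) < 1 := by
    intro P V hV hT
    have h1 : (⟨φ P h, h, rfl⟩ : B P) ∈ maximalIdeal (B P) := fun hu => by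
      obtain ⟨⟨_, r, rfl⟩, hr⟩ := hu.exists_right_inv
      have hr' : φ P h * φ P r = 1 := congrArg Subtype.val hr
      have h2 : φ P (1 - h * r) = 0 := by rw [map_sub, map_one, map_mul, hr', sub_self]
      exact not_isUnit_zero (h2 ▸ (hunit r).map (φ P))
    rw [← IsLocalRing.eq_maximalIdeal (comapIdeal_isMaximal hV hT)] at h1
    exact (mem_comapIdeal hV _).1 h1
  let ι := Σ P : PrimeSpectrum S, {V : ValuationSubring (K P) // B P ≤ V.toSubring ∧ V ≠ ⊤}
  haveI : Finite ι := by
    haveI : ∀ P, Finite {V : ValuationSubring (K P) // B P ≤ V.toSubring ∧ V ≠ ⊤} := fun P =>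
      (finite_valuationSubrings (B P)).to_subtype
    infer_instance
  haveI hVd : ∀ i : ι, Ring.KrullDimLE 1 i.2.1 := fun i => krullDimLE_one_of_le (B i.1) i.2.2.1
  refine ⟨ι, inferInstance, fun i => i.2.1.ValueGroup, inferInstance,
    fun i => i.2.1.valuation.comap ((π i.1).comp ψ), fun i f a hf => ?_, fun i => ?_, fun f hf => ?_⟩
  · rw [Valuation.comap_apply] at hf
    by_cases ha : ((π i.1).comp ψ) a = 0
    · exact ⟨0, fun n _ => by
        rw [Valuation.comap_apply, Valuation.comap_apply, ha, map_zero]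
        exact pow_pos (zero_lt_one.trans hf) n⟩
    obtain ⟨M, hM⟩ := exists_pow_lt i.2.1 (t := (((π i.1).comp ψ) f)⁻¹)
      (by rw [map_inv₀]; exact inv_lt_one_of_one_lt₀ hf) (inv_ne_zero ha)
    refine ⟨M, fun n hn => ?_⟩
    have := hM n hn
    rw [map_inv₀, map_inv₀, inv_pow, inv_lt_inv₀] at this
    · exact this
    · exact pow_pos (zero_lt_one.trans hf) n
    · exact zero_lt_iff.2 ((Valuation.ne_zero_iff _).2 ha)
  · by_contra hne
    push Not at hne
    have hle : Subring.closure (Set.range (algebraMap R S) ∪ Set.range ψ) ≤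
        i.2.1.toSubring.comap (π i.1) := by
      refine Subring.closure_le.2 ?_
      rintro _ (⟨r, rfl⟩ | ⟨a, rfl⟩)
      · exact i.2.2.1 ⟨r, rfl⟩
      · exact (i.2.1.valuation_le_one_iff _).1 (hne a)
    have h1 : π i.1 (IsLocalization.Away.invSelf h) ∈ i.2.1 := hle (hgen ▸ Subring.mem_top _)
    have h2 : i.2.1.valuation (φ i.1 h) * i.2.1.valuation (π i.1 (IsLocalization.Away.invSelf h)) = 1 := by
      rw [← map_mul]
      show i.2.1.valuation (π i.1 (algebraMap R S h) * _) = 1
      rw [← map_mul (π i.1), IsLocalization.Away.mul_invSelf, map_one, map_one]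
    have h3 := mul_le_of_le_one_right' ((i.2.1.valuation_le_one_iff _).2 h1) (a := i.2.1.valuation (φ i.1 h))
    rw [h2] at h3
    exact absurd (hhV _ _ i.2.2.1 i.2.2.2) h3.not_gt
  · have hne : ∀ P, π P (ψ f) ≠ 0 := fun P e => by
      obtain ⟨V, hV, hT⟩ := exists_valuationSubring_of_ne_top (hBtop P)
      have := hf ⟨P, V, hV, hT⟩
      rw [Valuation.comap_apply, RingHom.comp_apply, e, map_zero] at this
      exact absurd this (not_lt.2 zero_le')
    have hu : IsUnit (ψ f) := by
      by_contra hu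
      obtain ⟨m, hm', hfm⟩ := exists_max_ideal_of_mem_nonunits hu
      exact hne ⟨m, hm'.isPrime⟩ ((hπ _ _).2 hfm)
    obtain ⟨z, hz⟩ := hu.exists_left_inv
    have hzπ : ∀ P, π P z = (π P (ψ f))⁻¹ := fun P =>
      (inv_eq_of_mul_eq_one_left (by rw [← map_mul, hz, map_one])).symm
    have hn : ∀ i : ι, ∃ M, ∀ n, M ≤ n → i.2.1.valuation (π i.1 z) ^ n < i.2.1.valuation (φ i.1 h) := fun i =>
      exists_pow_lt i.2.1 (by rw [hzπ, map_inv₀]; exact inv_lt_one_of_one_lt₀ (hf i)) (hh0 i.1)
    choose M hM using hn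
    cases nonempty_fintype ι
    let n := Finset.univ.sup M + 1
    let w := z ^ n * IsLocalization.Away.invSelf h
    have hint : (algebraMap R S).IsIntegralElem w := isIntegralElem_of_forall_prime _ _ fun P => by
      have hmem : IsIntegral (B P) (π P w) := isIntegral_of_forall_mem fun V hV => by
        by_cases hT : V = ⊤
        · exact hT ▸ ValuationSubring.mem_top _
        refine (V.valuation_le_one_iff _).1 ?_
        have hw : π P w * φ P h = π P z ^ n := by
          rw [← map_pow]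
          show π P w * π P (algebraMap R S h) = _
          rw [← map_mul]
          simp only [w]
          rw [mul_assoc, mul_comm (IsLocalization.Away.invSelf h), IsLocalization.Away.mul_invSelf, mul_one]
        have hle : V.valuation (π P z) ^ n ≤ V.valuation (φ P h) :=
          (hM ⟨P, V, hV, hT⟩ n ((Finset.le_sup (f := M) (Finset.mem_univ _)).trans (Nat.le_succ _))).le
        rw [← map_pow, ← hw, map_mul] at hle
        exact le_of_mul_le_mul_right (by rwa [one_mul]) (zero_lt_iff.2 ((Valuation.ne_zero_iff _).2 (hh0 P)))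
      obtain ⟨p, hp, hpw⟩ := hmem
      obtain ⟨q, hq, -, hqm⟩ := lifts_and_natDegree_eq_and_monic (f := (φ P).rangeRestrict)
        (mem_lifts _ |>.2 (Polynomial.map_surjective _ (φ P).rangeRestrict_surjective p)) hp
      refine ⟨q, hqm, (hπ P _).1 ?_⟩
      rw [hom_eval₂]
      rw [← hq, eval₂_map] at hpw
      exact hpw
    have hint' : IsIntegral R w := hint
    obtain ⟨T, hT⟩ := hint'.fg_adjoin_singleton
    obtain ⟨⟨b, hb⟩, hb'⟩ := IsLocalization.exist_integer_multiples_of_finset (Submonoid.powers h) T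
    obtain ⟨k, rfl⟩ := hb
    have hclear : ∀ y ∈ Algebra.adjoin R {w}, algebraMap R S (h ^ k) * y ∈ (algebraMap R S).range := by
      intro y hy
      have hy' : y ∈ Submodule.span R (T : Set S) := hT ▸ (hy : y ∈ Subalgebra.toSubmodule (Algebra.adjoin R {w}))
      clear hy
      induction hy' using Submodule.span_induction with
      | mem y hy =>
        obtain ⟨r, hr⟩ := hb' y hy
        exact ⟨r, hr.trans (Algebra.smul_def _ _)⟩
      | zero => exact ⟨0, by rw [map_zero, mul_zero]⟩
      | add a b _ _ ha hb => rw [mul_add]; exact add_mem ha hb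
      | smul r y _ hy =>
        rw [Algebra.smul_def, mul_left_comm]
        exact mul_mem ⟨r, rfl⟩ hy
    obtain ⟨r, hr⟩ := hclear (w ^ (k + 1)) (pow_mem (Algebra.subset_adjoin (Set.mem_singleton w)) _)
    refine ⟨n * (k + 1), Nat.mul_pos (Nat.succ_pos _) (Nat.succ_pos _), h * r, Ideal.mul_mem_right _ _ hm, ?_⟩
    have hzn : algebraMap R S h * w = z ^ n := by
      simp only [w]
      rw [mul_left_comm, IsLocalization.Away.mul_invSelf, mul_one]
    rw [map_mul, hr, map_pow]
    calc algebraMap R S h * (algebraMap R S h ^ k * w ^ (k + 1)) * ψ f ^ (n * (k + 1))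
        = (algebraMap R S h * w) ^ (k + 1) * (ψ f ^ n) ^ (k + 1) := by rw [pow_mul]; ring
      _ = ((z * ψ f) ^ n) ^ (k + 1) := by rw [hzn, ← mul_pow, ← mul_pow]
      _ = 1 := by rw [hz, one_pow, one_pow]

end Groth.Agent.PicGlue.Poles
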