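import Groth.Agent.PicGlue.Cover
import Groth.Agent.QCoh.LocFree

/-!
# Punctured neighbourhoods of points with one-dimensional local rings
-/

universe u

open CategoryTheory AlgebraicGeometry TopologicalSpace

set_option backward.isDefEq.respectTransparency false
set_option backward.isDefEq.respectTransparency.types false

namespace Groth.Agent.PicGlue

open Groth.Agent

variable {X : Scheme.{u}}

/-- If the generalisations of `x` in `D(g)` lie in `O`, then near `x` the open `D(g)` lies in `O`. -/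
theorem exists_shrink {W : X.Opens} (hW : IsAffineOpen W) {x : X} (hx : x ∈ W) (g : Γ(X, W)) (O : X.Opens)
    (h : ∀ z, z ⤳ x → z ∈ X.basicOpen g → z ∈ O) :
    ∃ c : Γ(X, W), x ∈ X.basicOpen c ∧ X.basicOpen (c * g) ≤ O := by
  let A := Γ(X, W)
  let T : Set (PrimeSpectrum A) := (hW.fromSpec ⁻¹' (O : Set X))ᶜ
  have hT : IsClosed T := (O.isOpen.preimage hW.fromSpec.continuous).isClosed_compl
  obtain ⟨J, hJ⟩ := (PrimeSpectrum.isClosed_iff_zeroLocus_ideal T).1 hT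
  have hmem : ∀ (q : PrimeSpectrum A) (a : A), hW.fromSpec q ∈ X.basicOpen a ↔ a ∉ q.asIdeal := fun q a => by
    show q ∈ hW.fromSpec ⁻¹ᵁ X.basicOpen a ↔ _
    rw [hW.fromSpec_preimage_basicOpen]
    exact Iff.rfl
  let p := hW.primeIdealOf ⟨x, hx⟩
  have hpx : hW.fromSpec p = x := hW.fromSpec_primeIdealOf ⟨x, hx⟩
  obtain ⟨n, c, hc, hcg⟩ : ∃ (n : ℕ) (c : A), c ∉ p.asIdeal ∧ c * g ^ n ∈ J := by
    by_contra hne
    let S : Submonoid A := p.asIdeal.primeCompl ⊔ Submonoid.powers g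
    have hdisj : Disjoint (J : Set A) (S : Set A) := by
      rw [Set.disjoint_left]
      intro a ha haS
      obtain ⟨c, hc, _, ⟨n, rfl⟩, rfl⟩ := Submonoid.mem_sup.1 haS
      exact hne ⟨n, c, hc, ha⟩
    obtain ⟨q, hq, hJq, hqS⟩ := Ideal.exists_le_prime_disjoint J S hdisj
    have hqp : q ≤ p.asIdeal := fun a ha => by
      by_contra hap
      exact Set.disjoint_left.1 hqS ha (Submonoid.mem_sup_left hap)
    have hspec : hW.fromSpec ⟨q, hq⟩ ⤳ x := by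
      rw [← hpx]
      exact ((PrimeSpectrum.le_iff_specializes ⟨q, hq⟩ p).1 hqp).map hW.fromSpec.continuous
    have hg : hW.fromSpec ⟨q, hq⟩ ∈ X.basicOpen g := (hmem _ _).2 fun hgq =>
      Set.disjoint_left.1 hqS hgq (Submonoid.mem_sup_right (Submonoid.mem_powers g))
    have h1 : (⟨q, hq⟩ : PrimeSpectrum A) ∈ T := by
      rw [hJ]
      exact hJq
    exact h1 (h _ hspec hg)
  refine ⟨c, ?_, fun z hz => ?_⟩
  · rw [← hpx]
    exact (hmem p c).2 hc
  · have hzW : z ∈ W := X.basicOpen_le _ hz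
    rw [show z = hW.fromSpec (hW.primeIdealOf ⟨z, hzW⟩) from (hW.fromSpec_primeIdealOf ⟨z, hzW⟩).symm] at hz ⊢
    by_contra hzO
    have h1 : hW.primeIdealOf ⟨z, hzW⟩ ∈ PrimeSpectrum.zeroLocus (J : Set A) := by
      rw [← hJ]
      exact hzO
    have h2 := (hmem _ _).1 hz
    rcases (hW.primeIdealOf ⟨z, hzW⟩).isPrime.mem_or_mem (h1 hcg) with h3 | h3
    · exact h2 (Ideal.mul_mem_right _ _ h3)
    · exact h2 (Ideal.mul_mem_left _ _ ((hW.primeIdealOf ⟨z, hzW⟩).isPrime.mem_of_pow_mem _ h3))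

/-- The proper generalisations of a point with one-dimensional noetherian local ring. -/
theorem generalisations {x : X} [IsNoetherianRing (X.presheaf.stalk x)]
    (hdim : ringKrullDim (X.presheaf.stalk x) ≤ 1) :
    {z | z ⤳ x ∧ z ≠ x}.Finite ∧ ∀ z, z ⤳ x → z ≠ x → ∀ w, w ⤳ x → w ≠ x → z ⤳ w → z = w := by
  let A := X.presheaf.stalk x
  haveI : Ring.KrullDimLE 1 A := Ring.krullDimLE_iff.2 hdim
  have hmin : ∀ (q : PrimeSpectrum A), X.fromSpecStalk x q ≠ x → q.asIdeal ∈ minimalPrimes A := by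
    intro q hq
    rcases Ring.krullDimLE_one_iff.1 ‹_› q.asIdeal q.isPrime with h | h
    · exact h
    · refine absurd ?_ hq
      rw [show q = IsLocalRing.closedPoint A from PrimeSpectrum.ext (IsLocalRing.eq_maximalIdeal h)]
      exact Scheme.fromSpecStalk_closedPoint
  have hsurj : ∀ z, z ⤳ x → ∃ q, X.fromSpecStalk x q = z := fun z hz => by
    have : z ∈ Set.range (X.fromSpecStalk x) := by rw [Scheme.range_fromSpecStalk]; exact hz
    exact this
  refine ⟨?_, fun z hz hzne w hw hwne hzw => ?_⟩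
  · have hfin : {q : PrimeSpectrum A | q.asIdeal ∈ minimalPrimes A}.Finite :=
      Set.Finite.preimage (fun a _ b _ h => PrimeSpectrum.ext h) (minimalPrimes.finite_of_isNoetherianRing A)
    refine (hfin.image (X.fromSpecStalk x)).subset fun z ⟨hz, hne⟩ => ?_
    obtain ⟨q, rfl⟩ := hsurj z hz
    exact ⟨q, hmin q hne, rfl⟩
  · obtain ⟨q, rfl⟩ := hsurj z hz
    obtain ⟨q', rfl⟩ := hsurj w hw
    have h1 : q ⤳ q' := (X.fromSpecStalk x).isEmbedding.isInducing.specializes_iff.1 hzw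
    have h2 : q.asIdeal ≤ q'.asIdeal := (PrimeSpectrum.le_iff_specializes q q').2 h1
    exact congrArg _ (PrimeSpectrum.ext (le_antisymm h2 ((hmin q' hwne).2 ⟨q.isPrime, bot_le⟩ h2)))

/-- A neighbourhood of `x` whose trace on `U` is a basic open. -/
theorem exists_punctured (U : X.Opens) [QuasiCompact U.ι] (hdisc : DiscreteTopology ↥((U : Set X)ᶜ)) {x : X}
    (hx : x ∉ U) [IsNoetherianRing (X.presheaf.stalk x)] (hdim : ringKrullDim (X.presheaf.stalk x) ≤ 1) :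
    ∃ (W : X.Opens) (f : Γ(X, W)), IsAffineOpen W ∧ x ∈ W ∧ (∀ z ∈ W, z ∉ U → z = x) ∧ W ⊓ U = X.basicOpen f := by
  classical
  obtain ⟨O, hxO, hO⟩ := exists_isolating U hdisc x
  obtain ⟨_, ⟨W, hW, rfl⟩, hxW, hWO⟩ := X.isBasis_affineOpens.exists_subset_of_mem_open hxO O.isOpen
  have hW' : IsAffineOpen W := hW
  obtain ⟨hfin, -⟩ := generalisations (x := x) hdim
  let G := {z | z ⤳ x ∧ z ≠ x}
  have hGU : ∀ z ∈ G, z ∈ W ⊓ U := fun z ⟨hz, hne⟩ => by
    have hzW := hz.mem_open W.isOpen hxW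
    refine ⟨hzW, ?_⟩
    by_contra hzU
    exact hne (hO z (hWO hzW) hzU)
  have hcpt : IsCompact ((W ⊓ U : X.Opens) : Set X) := by
    have h1 := (U.ι.isCompact_preimage hW'.isCompact).image U.ι.continuous
    have h2 : U.ι '' (U.ι ⁻¹ᵁ W : Set U.toScheme) = ((W ⊓ U : X.Opens) : Set X) := by
      rw [← Scheme.Hom.coe_image, Scheme.Hom.image_preimage_eq_opensRange_inf, Scheme.Opens.opensRange_ι,
        inf_comm]
    rwa [h2] at h1
  -- finitely many basic opens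
  obtain ⟨s, hs⟩ : ∃ s : Finset Γ(X, W), W ⊓ U = ⨆ g ∈ s, X.basicOpen g := by
    choose g hg hzg using fun z : (W ⊓ U : X.Opens) =>
      hW'.exists_basicOpen_le (V := W ⊓ U) ⟨z.1, z.2⟩ z.2.1
    obtain ⟨T, hT⟩ := hcpt.elim_finite_subcover (fun z => (X.basicOpen (g z) : Set X))
      (fun z => (X.basicOpen (g z)).isOpen) (fun z hz => Set.mem_iUnion.2 ⟨⟨z, hz⟩, hzg _⟩)
    refine ⟨T.image g, le_antisymm (fun z hz => ?_) (iSup₂_le fun a ha => ?_)⟩
    · obtain ⟨t, ht, hzt⟩ := Set.mem_iUnion₂.1 (hT hz)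
      exact Opens.mem_iSup.2 ⟨g t, Opens.mem_iSup.2 ⟨Finset.mem_image_of_mem _ ht, hzt⟩⟩
    · obtain ⟨t, -, rfl⟩ := Finset.mem_image.1 ha
      exact hg t
  let I : Ideal Γ(X, W) := Ideal.span (s : Set Γ(X, W))
  obtain ⟨f, hfI, hf⟩ : ∃ f ∈ I, ∀ z ∈ G, z ∈ X.basicOpen f := by
    by_contra hne
    let F : Finset G := @Finset.univ G hfin.fintype
    rcases Set.eq_empty_or_nonempty G with hG | ⟨z₀, hz₀⟩
    · exact hne ⟨0, I.zero_mem, fun z hz => by rw [hG] at hz; exact hz.elim⟩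
    let pr : G → Ideal Γ(X, W) := fun z => (hW'.primeIdealOf ⟨z.1, (hGU z.1 z.2).1⟩).asIdeal
    have hsub : (I : Set Γ(X, W)) ⊆ ⋃ z ∈ (↑F : Set G), pr z := by
      intro a ha
      by_contra hc
      refine hne ⟨a, ha, fun z hz => ?_⟩
      rw [QCoh.mem_basicOpen_iff_notMem hW' (hGU z hz).1]
      exact fun h => hc (Set.mem_iUnion₂.2 ⟨⟨z, hz⟩, @Finset.mem_univ G hfin.fintype _, h⟩)
    obtain ⟨z, -, hle⟩ := (Ideal.subset_union_prime ⟨z₀, hz₀⟩ ⟨z₀, hz₀⟩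
      fun i _ _ _ => (hW'.primeIdealOf ⟨i.1, (hGU i.1 i.2).1⟩).isPrime).1 hsub
    have hz' := hGU z.1 z.2
    rw [hs] at hz'
    obtain ⟨a, ha⟩ := Opens.mem_iSup.1 hz'
    obtain ⟨has, hza⟩ := Opens.mem_iSup.1 ha
    exact (QCoh.mem_basicOpen_iff_notMem hW' (hGU z.1 z.2).1 a).1 hza (hle (Ideal.subset_span has))
  have hfU : X.basicOpen f ≤ W ⊓ U := fun z hz => by
    have hzW := X.basicOpen_le f hz
    rw [QCoh.mem_basicOpen_iff_notMem hW' hzW] at hz
    rw [hs]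
    by_contra hno
    refine hz (Ideal.span_le.2 (fun a ha => ?_) hfI)
    by_contra hza
    exact hno (Opens.mem_iSup.2 ⟨a, Opens.mem_iSup.2 ⟨ha,
      (QCoh.mem_basicOpen_iff_notMem hW' hzW a).2 hza⟩⟩)
  choose c hxc hc using fun g : s => exists_shrink hW' hxW g.1 (X.basicOpen f) fun z hz hzg => hf z ⟨hz, fun e => by
    have : z ∈ W ⊓ U := by rw [hs]; exact Opens.mem_iSup.2 ⟨g.1, Opens.mem_iSup.2 ⟨g.2, hzg⟩⟩
    exact hx (e ▸ this.2)⟩
  let d := ∏ g : s, c g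
  have hxd : x ∈ X.basicOpen d := by
    rw [QCoh.mem_basicOpen_iff_notMem hW' hxW]
    intro h
    obtain ⟨g, -, hg⟩ := (Ideal.IsPrime.prod_mem_iff (hp := (hW'.primeIdealOf ⟨x, hxW⟩).isPrime)).1 h
    exact (QCoh.mem_basicOpen_iff_notMem hW' hxW _).1 (hxc g) hg
  refine ⟨X.basicOpen d, AModX.resR (X.basicOpen_le d) f, hW'.basicOpen d, hxd,
    fun z hz hzU => hO z (hWO (X.basicOpen_le d hz)) hzU, ?_⟩
  rw [show AModX.resR (X.basicOpen_le d) f = X.presheaf.map (homOfLE (X.basicOpen_le d)).op f from rfl,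
    Scheme.basicOpen_res]
  refine le_antisymm (fun z ⟨hz, hzU⟩ => ⟨hz, ?_⟩) (fun z ⟨hz, hzf⟩ => ⟨hz, (hfU hzf).2⟩)
  have hzWU : z ∈ W ⊓ U := ⟨X.basicOpen_le d hz, hzU⟩
  rw [hs] at hzWU
  obtain ⟨a, ha⟩ := Opens.mem_iSup.1 hzWU
  obtain ⟨has, hza⟩ := Opens.mem_iSup.1 ha
  refine hc ⟨a, has⟩ ?_
  rw [Scheme.basicOpen_mul]
  refine ⟨?_, hza⟩
  have hzW := X.basicOpen_le d hz
  rw [SetLike.mem_coe, QCoh.mem_basicOpen_iff_notMem hW' hzW] at hz ⊢
  exact fun h => hz ((hW'.primeIdealOf ⟨z, hzW⟩).isPrime.prod_mem_iff.2 ⟨⟨a, has⟩, Finset.mem_univ _, h⟩)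

end Groth.Agent.PicGlue
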